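import Cfsg.Agent.Lib.CoOneType.Space
import Cfsg.Agent.Lib.Invol.Dihedral
import Cfsg.Agent.Lib.Transfer.Fusion
import Mathlib.GroupTheory.Sylow
import Mathlib.Tactic.Group

/-!
# An extraspecial subgroup of order `2^9` with a hyperbolic orthogonal action
-/

set_option autoImplicit false
set_option linter.style.haveILetI false
set_option synthInstance.maxSize 20000
set_option maxRecDepth 10000

namespace CfsgLib.CoOneType

open CfsgLib.Classical.Quad

universe u

variable {G : Type u} [Group G]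

theorem exists_BV {x : V8} (hx : x ≠ 0) : ∃ v, BV v x = 1 := by
  by_contra! h
  exact hx (BV_nd fun v => by rw [BV_comm]; exact (zcases _).resolve_right (h v))

/-- The power of `s` with a bit as exponent. -/
def pw (s : G) (c : ZMod 2) : G := if c = 0 then 1 else s

theorem pw_zero (s : G) : pw s 0 = 1 := if_pos rfl

theorem pw_one (s : G) : pw s 1 = s := if_neg one_ne_zero

theorem pw_add {s : G} (hs : s * s = 1) (a b : ZMod 2) : pw s (a + b) = pw s a * pw s b := by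
  rcases zcases a with rfl | rfl <;> rcases zcases b with rfl | rfl
  · rw [add_zero, pw_zero, one_mul]
  · rw [zero_add, pw_zero, one_mul]
  · rw [add_zero, pw_zero, mul_one]
  · rw [CharTwo.add_self_eq_zero, pw_zero, pw_one, hs]

theorem pw_eq_one {s : G} (hs : s ≠ 1) {c : ZMod 2} : pw s c = 1 ↔ c = 0 := by
  rcases zcases c with rfl | rfl <;> simp [pw_zero, pw_one, hs]

theorem pw_inj {s : G} (hs : s ≠ 1) {a b : ZMod 2} (h : pw s a = pw s b) : a = b := by
  rcases zcases a with rfl | rfl <;> rcases zcases b with rfl | rfl <;>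
    simp only [pw_zero, pw_one] at h <;> first | rfl | exact absurd h hs | exact absurd h.symm hs

theorem commute_pw {s c : G} (h : Commute c s) (a : ZMod 2) : Commute c (pw s a) := by
  rcases zcases a with rfl | rfl
  · rw [pw_zero]; exact Commute.one_right c
  · rw [pw_one]; exact h

theorem conj_eq_iff_commute {c x : G} : c * x * c⁻¹ = x ↔ Commute c x :=
  mul_inv_eq_iff_eq_mul

/-- `c` centralizes `s` and acts on the coordinates of `E` by `g`. -/
def Acts (s : G) (E : Subgroup G) (π : G → V8) (c : G) (g : Orth Q8) : Prop :=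
  Commute c s ∧ ∀ q ∈ E, π (c * q * c⁻¹) = g.1 (π q)

/-- Coordinates for `E` and the action of the centralizer of `s` on it. -/
structure Model (s : G) (E : Subgroup G) (π : G → V8) : Prop where
  ne_one : s ≠ 1
  sq_one : s * s = 1
  mem : s ∈ E
  le_cent : ∀ q ∈ E, Commute q s
  map_mul : ∀ p ∈ E, ∀ q ∈ E, π (p * q) = π p + π q
  ker : ∀ q ∈ E, (π q = 0 ↔ q = 1 ∨ q = s)
  surj : ∀ v, ∃ q ∈ E, π q = v
  square : ∀ q ∈ E, q * q = pw s (qV (π q))
  swap : ∀ p ∈ E, ∀ q ∈ E, p * q = q * p * pw s (BV (π p) (π q))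
  normal : ∀ c, Commute c s → ∀ q ∈ E, c * q * c⁻¹ ∈ E
  faith : ∀ c, Acts s E π c 1 → c ∈ E
  act : ∀ c, Commute c s → ∃ g ∈ Ev, Acts s E π c g
  lift : ∀ g ∈ Ev, ∃ c, Acts s E π c g

namespace Model

variable {s : G} {E : Subgroup G} {π : G → V8} (M : Model s E π)
include M

theorem pw_mem (c : ZMod 2) : pw s c ∈ E := by
  rcases zcases c with rfl | rfl
  · rw [pw_zero]; exact E.one_mem
  · rw [pw_one]; exact M.mem

theorem map_one : π 1 = 0 := (M.ker 1 E.one_mem).2 (Or.inl rfl)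

theorem map_s : π s = 0 := (M.ker s M.mem).2 (Or.inr rfl)

theorem map_pw (c : ZMod 2) : π (pw s c) = 0 := by
  rcases zcases c with rfl | rfl
  · rw [pw_zero, M.map_one]
  · rw [pw_one, M.map_s]

theorem map_inv {q : G} (hq : q ∈ E) : π q⁻¹ = π q := by
  have h := M.map_mul q⁻¹ (E.inv_mem hq) q hq
  rw [inv_mul_cancel, M.map_one] at h
  rw [v8_add_eq h.symm, zero_add]

theorem eq_of_map {p q : G} (hp : p ∈ E) (hq : q ∈ E) (h : π p = π q) : p = q ∨ p = q * s := by
  have h1 : π (q⁻¹ * p) = 0 := by rw [M.map_mul _ (E.inv_mem hq) _ hp, M.map_inv hq, h, v8_add_self]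
  rcases (M.ker _ (E.mul_mem (E.inv_mem hq) hp)).1 h1 with e | e
  · exact Or.inl (inv_mul_eq_one.1 e).symm
  · exact Or.inr (inv_mul_eq_iff_eq_mul.1 e)

theorem conj_eq {p q : G} (hp : p ∈ E) (hq : q ∈ E) : p * q * p⁻¹ = q * pw s (BV (π p) (π q)) := by
  rw [M.swap p hp q hq, mul_assoc (q * p), ← ((commute_pw (M.le_cent p hp) _).inv_left).eq]
  group

theorem commute_iff {p q : G} (hp : p ∈ E) (hq : q ∈ E) : Commute p q ↔ BV (π p) (π q) = 0 := by
  rw [← conj_eq_iff_commute, M.conj_eq hp hq, mul_eq_left, pw_eq_one M.ne_one]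

theorem map_conj {p q : G} (hp : p ∈ E) (hq : q ∈ E) : π (p * q * p⁻¹) = π q := by
  rw [M.conj_eq hp hq, M.map_mul q hq _ (M.pw_mem _), M.map_pw, add_zero]

theorem acts_mem {e : G} (he : e ∈ E) : Acts s E π e 1 :=
  ⟨M.le_cent e he, fun q hq => by rw [M.map_conj he hq, one_apply]⟩

theorem acts_mul {c d : G} {g h : Orth Q8} (hc : Acts s E π c g) (hd : Acts s E π d h) :
    Acts s E π (c * d) (g * h) := by
  refine ⟨hc.1.mul_left hd.1, fun q hq => ?_⟩
  rw [show c * d * q * (c * d)⁻¹ = c * (d * q * d⁻¹) * c⁻¹ by group, hc.2 _ (M.normal d hd.1 q hq),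
    hd.2 q hq, mul_apply]

theorem acts_inv {c : G} {g : Orth Q8} (hc : Acts s E π c g) : Acts s E π c⁻¹ g⁻¹ := by
  refine ⟨hc.1.inv_left, fun q hq => ?_⟩
  have h1 := hc.2 _ (M.normal c⁻¹ hc.1.inv_left q hq)
  rw [show c * (c⁻¹ * q * c⁻¹⁻¹) * c⁻¹ = q by group] at h1
  rw [h1, inv_apply_self]

theorem acts_unique {c : G} {g h : Orth Q8} (hg : Acts s E π c g) (hh : Acts s E π c h) : g = h := by
  refine orth_ext fun v => ?_
  obtain ⟨q, hq, rfl⟩ := M.surj v
  rw [← hg.2 q hq, hh.2 q hq]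

theorem acts_pow {c : G} {g : Orth Q8} (hc : Acts s E π c g) (n : ℕ) : Acts s E π (c ^ n) (g ^ n) := by
  induction n with
  | zero => rw [pow_zero, pow_zero]; exact M.acts_mem E.one_mem
  | succ n ih => rw [pow_succ, pow_succ]; exact M.acts_mul ih hc

theorem pow_four {q : G} (hq : q ∈ E) : q ^ 4 = 1 := by
  have h2 : pw s (qV (π q)) * pw s (qV (π q)) = 1 := by
    rw [← pw_add M.sq_one, CharTwo.add_self_eq_zero, pw_zero]
  rw [show 4 = 2 + 2 from rfl, pow_add, pow_two, M.square q hq, h2]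

theorem central {p : G} (hp : p ∈ E) (h : ∀ q ∈ E, Commute p q) : p = 1 ∨ p = s := by
  refine (M.ker p hp).1 (nd8 _ fun v => ?_)
  obtain ⟨q, hq, rfl⟩ := M.surj v
  rw [polar_Q8]
  exact (M.commute_iff hp hq).1 (h q hq)

theorem sq_eq_one {q : G} (hq : q ∈ E) : q * q = 1 ↔ qV (π q) = 0 := by
  rw [M.square q hq, pw_eq_one M.ne_one]

/-- A change of coordinates. -/
theorem comp {k : Orth Q8} (hk : k ∈ Ev) : Model s E fun x => k.1 (π x) where
  ne_one := M.ne_one
  sq_one := M.sq_one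
  mem := M.mem
  le_cent := M.le_cent
  map_mul p hp q hq := by rw [M.map_mul p hp q hq, g_add]
  ker q hq := by rw [LinearEquiv.map_eq_zero_iff]; exact M.ker q hq
  surj v := by
    obtain ⟨q, hq, e⟩ := M.surj ((k⁻¹).1 v)
    exact ⟨q, hq, by rw [e, self_apply_inv]⟩
  square q hq := by rw [qV_g]; exact M.square q hq
  swap p hp q hq := by rw [BV_g]; exact M.swap p hp q hq
  normal := M.normal
  faith c hc := M.faith c ⟨hc.1, fun q hq => by
    have := hc.2 q hq
    rw [one_apply] at this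
    rw [one_apply]
    exact k.1.injective this⟩
  act c hc := by
    obtain ⟨g, hg, ha⟩ := M.act c hc
    refine ⟨k * g * k⁻¹, mul_mem (mul_mem hk hg) (inv_mem hk), hc, fun q hq => ?_⟩
    simp only [mul_apply, inv_apply_self, ha.2 q hq]
  lift g hg := by
    obtain ⟨c, hc, ha⟩ := M.lift (k⁻¹ * g * k) (mul_mem (mul_mem (inv_mem hk) hg) hk)
    refine ⟨c, hc, fun q hq => ?_⟩
    simp only [ha q hq, mul_apply, self_apply_inv]

/-- Coordinates sending a singular element to `u0`. -/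
theorem adapted {u : G} (hu : u ∈ E) (huu : u * u = 1) (hu1 : u ≠ 1) (hus : u ≠ s) :
    ∃ π' : G → V8, Model s E π' ∧ π' u = u0 := by
  obtain ⟨g, hg, e⟩ := ev_transitive ((M.sq_eq_one hu).1 huu) fun h => by
    rcases (M.ker u hu).1 h with e | e
    exacts [hu1 e, hus e]
  exact ⟨_, M.comp (inv_mem hg), by rw [← e, inv_apply_self]⟩

end Model

/-- A conjugacy class of involutions with a large extraspecial subgroup at each member. -/
structure Sys (G : Type u) [Group G] where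
  /-- The class. -/
  K : G → Prop
  /-- The extraspecial subgroup. -/
  E : G → Subgroup G
  K_conj : ∀ g s, K s → K (g * s * g⁻¹)
  K_isConj : ∀ s t, K s → K t → IsConj s t
  E_conj : ∀ g s, K s → ∀ x, g * x * g⁻¹ ∈ E (g * s * g⁻¹) ↔ x ∈ E s
  model : ∀ s, K s → ∃ π, Model s (E s) π
  nwc : ∀ s, K s → ∃ u ∈ E s, u ≠ s ∧ K u

namespace Sys

variable (S : Sys G)

theorem K_sq {s : G} (hs : S.K s) : s * s = 1 ∧ s ≠ 1 := by
  obtain ⟨π, M⟩ := S.model s hs
  exact ⟨M.sq_one, M.ne_one⟩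

theorem mem_conj {g s x : G} (hs : S.K s) (hx : x ∈ S.E s) : g * x * g⁻¹ ∈ S.E (g * s * g⁻¹) :=
  (S.E_conj g s hs x).2 hx

theorem mem_conj_back {g s x : G} (hs : S.K s) (hx : g * x * g⁻¹ ∈ S.E s) : x ∈ S.E (g⁻¹ * s * g) := by
  have := S.mem_conj (g := g⁻¹) hs hx
  rwa [inv_inv, show g⁻¹ * (g * x * g⁻¹) * g = x by group] at this

/-- The involutions of `E s` form one class, apart from `s`. -/
theorem K_of_mem {s x : G} (hs : S.K s) (hx : x ∈ S.E s) (hxx : x * x = 1) (hx1 : x ≠ 1) : S.K x := by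
  obtain ⟨π, M⟩ := S.model s hs
  obtain ⟨u, hu, hus, huK⟩ := S.nwc s hs
  by_cases hxs : x = s
  · rw [hxs]; exact hs
  have hne : ∀ y ∈ S.E s, y ≠ 1 → y ≠ s → π y ≠ 0 := fun y hy h1 h2 h => by
    rcases (M.ker y hy).1 h with e | e
    exacts [h1 e, h2 e]
  obtain ⟨g, hg, e⟩ := ev_transitive' ((M.sq_eq_one hu).1 (S.K_sq huK).1)
    (hne u hu (S.K_sq huK).2 hus) ((M.sq_eq_one hx).1 hxx) (hne x hx hx1 hxs)
  obtain ⟨c, hc⟩ := M.lift g hg
  have hmem := M.normal c hc.1 u hu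
  rcases M.eq_of_map hx hmem (by rw [hc.2 u hu, e]) with e1 | e1
  · rw [e1]; exact S.K_conj c u huK
  · obtain ⟨v, hv⟩ : ∃ v, BV v (π (c * u * c⁻¹)) = 1 :=
      exists_BV (by rw [hc.2 u hu, e]; exact hne x hx hx1 hxs)
    obtain ⟨y, hy, rfl⟩ := M.surj v
    rw [e1, show c * u * c⁻¹ * s = y * (c * u * c⁻¹) * y⁻¹ by rw [M.conj_eq hy hmem, hv, pw_one]]
    exact S.K_conj y _ (S.K_conj c u huK)

/-- Every involution is conjugate into the centralizer. -/
theorem conj_into [Finite G] {s t : G} (hs : S.K s) (ht : t * t = 1) :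
    ∃ g : G, Commute (g * t * g⁻¹) s := by
  obtain ⟨π, M⟩ := S.model s hs
  haveI : Fact (Nat.Prime 2) := ⟨Nat.prime_two⟩
  have hQp : IsPGroup 2 (S.E s) := fun q => ⟨2, Subtype.ext (by
    rw [SubmonoidClass.coe_pow]; exact M.pow_four q.2)⟩
  obtain ⟨P, hP⟩ := hQp.exists_le_sylow
  have hQS : S.E s ≤ (P : Subgroup G) := hP
  have htp : IsPGroup 2 (Subgroup.zpowers t) := by
    intro g
    refine ⟨1, Subtype.ext ?_⟩
    obtain ⟨i, hi⟩ := Subgroup.mem_zpowers_iff.1 g.2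
    rw [pow_one, SubmonoidClass.coe_pow, ← hi, ← zpow_natCast, ← zpow_mul, mul_comm, zpow_mul,
      zpow_natCast, pow_two, ht, one_zpow, OneMemClass.coe_one]
  obtain ⟨P', hP'⟩ := htp.exists_le_sylow
  obtain ⟨g, hg⟩ := MulAction.exists_smul_eq G P' P
  haveI hnt : Nontrivial P := ⟨⟨⟨s, hQS M.mem⟩, 1, fun h => M.ne_one (congrArg Subtype.val h)⟩⟩
  haveI := P.2.center_nontrivial
  obtain ⟨⟨x, hxc⟩, hx1⟩ := exists_ne (1 : Subgroup.center P)
  have hxS : ∀ q ∈ (P : Subgroup G), Commute (x : G) q := fun q hq =>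
    (congrArg Subtype.val (Subgroup.mem_center_iff.1 hxc ⟨q, hq⟩) : q * (x : G) = x * q).symm
  have hxQ : (x : G) ∈ S.E s := M.faith x ⟨hxS s (hQS M.mem), fun q hq => by
    rw [one_apply, conj_eq_iff_commute.2 (hxS q (hQS hq))]⟩
  have hxe : (x : G) = s := (M.central hxQ fun q hq => hxS q (hQS hq)).resolve_left fun e =>
    hx1 (Subtype.ext (Subtype.ext e))
  refine ⟨g, hxe ▸ (hxS _ ?_).symm⟩
  rw [← hg]
  show g * t * g⁻¹ ∈ g • P'
  rw [CfsgLib.Transfer.mem_sylow_smul_iff, show g⁻¹ * (g * t * g⁻¹) * g = t by group]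
  exact hP' (Subgroup.mem_zpowers t)

end Sys

end CfsgLib.CoOneType
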