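import Cfsg.Agent.Lib.CoOneType.Lower

/-!
# Exactly three classes of involutions
-/

set_option autoImplicit false
set_option linter.style.haveILetI false

namespace CfsgLib.CoOneType

universe u

variable {G : Type u} [Group G]

theorem orderOf_two {x : G} (h : x * x = 1) (h1 : x ≠ 1) : orderOf x = 2 := by
  rw [orderOf_eq_iff (by norm_num)]
  refine ⟨by rw [pow_two, h], fun m hm h0 e => h1 ?_⟩
  obtain rfl : m = 1 := by omega
  rwa [pow_one] at e

namespace Sys

variable [Finite G] (S : Sys G)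

/-- The three classes. -/
theorem three_classes {s : G} (hs : S.K s) :
    ∃ a b c : G, orderOf a = 2 ∧ orderOf b = 2 ∧ orderOf c = 2 ∧ ¬ IsConj a b ∧ ¬ IsConj a c ∧
      ¬ IsConj b c ∧ ∀ x : G, orderOf x = 2 → IsConj x a ∨ IsConj x b ∨ IsConj x c := by
  obtain ⟨u, π, π', p⟩ := S.exists_pair_at hs
  obtain ⟨x0, hx0⟩ := p.exists_rep e1 e2
  obtain ⟨t0, ht0⟩ := p.exists_rep w0 vd
  obtain ⟨hxx, hxn, -, -⟩ := p.rep_facts hx0 (by decide) (by decide) (by decide)
  obtain ⟨htt, htn, -, -⟩ := p.rep_facts ht0 (by decide) (by decide) (by decide)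
  have hK : ∀ {y : G}, IsConj s y → S.K y := fun {y} h => by
    obtain ⟨g, rfl⟩ := isConj_iff.1 h
    exact S.K_conj g s hs
  refine ⟨s, x0, t0, orderOf_two (S.K_sq hs).1 (S.K_sq hs).2,
    orderOf_two hxx fun e => hxn (e ▸ (S.E s).one_mem), orderOf_two htt fun e => htn (e ▸ (S.E s).one_mem),
    fun h => p.x0_not_K hx0 (hK h), fun h => p.t0_not_K ht0 (hK h), p.x0_not_t0 hx0 ht0, fun x hx => ?_⟩
  have hx2 : x * x = 1 := by rw [← pow_two, ← hx]; exact pow_orderOf_eq_one x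
  have hx1 : x ≠ 1 := fun h => by rw [h, orderOf_one] at hx; omega
  obtain ⟨g, hg⟩ := S.conj_into hs hx2
  have hgx : IsConj x (g * x * g⁻¹) := isConj_iff.2 ⟨g, rfl⟩
  have hne : g * x * g⁻¹ ≠ 1 := fun h => hx1 (conj_eq_one_iff.1 h)
  rcases S.good_or_conj p ht0 hg (sq_conj hx2) hne with h | h
  · rcases S.good_cases p hx0 (sq_conj hx2) hne h with h | h
    · exact Or.inl (hgx.trans h)
    · exact Or.inr (Or.inl (hgx.trans h))
  · exact Or.inr (Or.inr (hgx.trans h))

end Sys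

end CfsgLib.CoOneType
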