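import Cfsg.Agent.Lib.CoOneType.Forms

/-!
# Isometries fixing a subspace
-/

set_option autoImplicit false
set_option linter.style.haveILetI false
set_option synthInstance.maxSize 20000
set_option maxRecDepth 20000

namespace CfsgLib.CoOneType

open CfsgLib.Classical.Quad CfsgLib.Orth

theorem card_fix {τ : Orth Q8} (h : τ * τ = 1) : 16 ≤ Nat.card {v : V8 // τ.1 v = v} := by
  let D : V8 →+ V8 := AddMonoidHom.mk' (fun v => τ.1 v + v) fun a b => by rw [g_add]; abel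
  have hrk : D.range ≤ D.ker := by
    rintro _ ⟨w, rfl⟩
    show τ.1 (τ.1 w + w) + (τ.1 w + w) = 0
    rw [g_add, ← mul_apply, h, one_apply, add_comm w]; exact v8_add_self _
  have h1 := AddSubgroup.card_mul_index D.ker
  rw [AddSubgroup.index_ker] at h1
  have h2 : Nat.card D.range ≤ Nat.card D.ker :=
    Nat.card_le_card_of_injective (AddSubgroup.inclusion hrk) (AddSubgroup.inclusion_injective _)
  have h3 : Nat.card V8 = 256 := by simp [V8, W6]
  have h4 : Nat.card D.ker = Nat.card {v : V8 // τ.1 v = v} :=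
    Nat.card_congr (Equiv.subtypeEquivRight fun v => by
      show τ.1 v + v = 0 ↔ _
      exact zadd_v8)
  rw [h3] at h1
  rw [← h4]
  by_contra hlt
  have := Nat.mul_le_mul (le_of_lt (not_le.1 hlt)) (h2.trans (Nat.le_of_lt_succ (not_le.1 hlt)))
  omega

/-- The fixed points of the standard root involution, seen from inside. -/
def PX (v : V8) : Prop := v.2.1 = 0 ∧ BW v.2.2 e1 = 0 ∧ BW v.2.2 e2 = 0

/-- The fixed points of the other root involution, seen from inside. -/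
def PT (v : V8) : Prop := v.2.1 = 0 ∧ BW v.2.2 w0 = 0 ∧ BW v.2.2 vd = 0

/-- The isometries fixing `PX`, by three bits. -/
def tf (a b c : ZMod 2) (v : V8) : V8 :=
  v + (a * v.2.2.2.1 + b * v.2.2.2.2.2.1, 0,
    (a * v.2.1 + c * v.2.2.2.2.2.1, 0, b * v.2.1 + c * v.2.2.2.1, 0, 0, 0))

theorem X_fix {g : Orth Q8} (h : ∀ v, PX v → g.1 v = v) : ∃ a b c, ∀ v, g.1 v = tf a b c v := by
  have hu := h u0 (by unfold PX; decide)
  have h1 := h (emb e1) (by unfold PX; decide)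
  have h2 := h (emb e2) (by unfold PX; decide)
  have h3 := h (emb e3) (by unfold PX; decide)
  have h4 := h (emb f3) (by unfold PX; decide)
  have hr : ∀ v, ∃ a b c : ZMod 2, g.1 v = v + (a, 0, (b, 0, c, 0, 0, 0)) := by
    intro v
    have hp : ∀ p, g.1 p = p → BV (g.1 v + v) p = 0 := fun p hp => by
      rw [BV_add_left]
      conv_lhs => arg 1; rw [← hp, BV_g]
      exact CharTwo.add_self_eq_zero _
    have k1 := hp _ hu; have k2 := hp _ h1; have k3 := hp _ h2; have k4 := hp _ h3; have k5 := hp _ h4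
    generalize hy : g.1 v + v = y at k1 k2 k3 k4 k5
    refine ⟨y.1, y.2.2.1, y.2.2.2.2.1, ?_⟩
    rw [v8_add_eq hy, add_comm y v, add_right_inj]
    exact (by decide : ∀ y : V8, BV y u0 = 0 → BV y (emb e1) = 0 → BV y (emb e2) = 0 → BV y (emb e3) = 0 →
      BV y (emb f3) = 0 → y = (y.1, 0, (y.2.2.1, 0, y.2.2.2.2.1, 0, 0, 0))) y k1 k2 k3 k4 k5
  obtain ⟨a₀, b₀, c₀, r0⟩ := hr v0
  obtain ⟨a₁, b₁, c₁, r1⟩ := hr (emb f1)
  obtain ⟨a₂, b₂, c₂, r2⟩ := hr (emb f2)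
  have q0 := qV_g g v0; rw [r0] at q0
  have q1 := qV_g g (emb f1); rw [r1] at q1
  have q2 := qV_g g (emb f2); rw [r2] at q2
  obtain rfl : a₀ = 0 := (by decide : ∀ a b c : ZMod 2,
    qV (v0 + (a, 0, (b, 0, c, 0, 0, 0))) = qV v0 → a = 0) _ _ _ q0
  obtain rfl : b₁ = 0 := (by decide : ∀ a b c : ZMod 2,
    qV (emb f1 + (a, 0, (b, 0, c, 0, 0, 0))) = qV (emb f1) → b = 0) _ _ _ q1
  obtain rfl : c₂ = 0 := (by decide : ∀ a b c : ZMod 2,
    qV (emb f2 + (a, 0, (b, 0, c, 0, 0, 0))) = qV (emb f2) → c = 0) _ _ _ q2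
  have p01 := BV_g g v0 (emb f1); rw [r0, r1] at p01
  have p02 := BV_g g v0 (emb f2); rw [r0, r2] at p02
  have p12 := BV_g g (emb f1) (emb f2); rw [r1, r2] at p12
  obtain rfl : b₀ = a₁ := (by decide : ∀ b c a c' : ZMod 2,
    BV (v0 + (0, 0, (b, 0, c, 0, 0, 0))) (emb f1 + (a, 0, (0, 0, c', 0, 0, 0))) = BV v0 (emb f1) → b = a)
      _ _ _ _ p01
  obtain rfl : c₀ = a₂ := (by decide : ∀ b c a b' : ZMod 2,
    BV (v0 + (0, 0, (b, 0, c, 0, 0, 0))) (emb f2 + (a, 0, (b', 0, 0, 0, 0, 0))) = BV v0 (emb f2) → c = a)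
      _ _ _ _ p02
  obtain rfl : c₁ = b₂ := (by decide : ∀ a c a' b : ZMod 2,
    BV (emb f1 + (a, 0, (0, 0, c, 0, 0, 0))) (emb f2 + (a', 0, (b, 0, 0, 0, 0, 0))) = BV (emb f1) (emb f2) →
      c = b) _ _ _ _ p12
  refine ⟨b₀, c₀, c₁, fun v => ?_⟩
  conv_lhs => rw [show v = v.1 • u0 + v.2.1 • v0 + v.2.2.1 • emb e1 + v.2.2.2.1 • emb f1 +
      v.2.2.2.2.1 • emb e2 + v.2.2.2.2.2.1 • emb f2 + v.2.2.2.2.2.2.1 • emb e3 +
      v.2.2.2.2.2.2.2 • emb f3 by simp [u0, v0, emb, e1, f1, e2, f2, e3, f3, Prod.ext_iff]]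
  simp only [map_add, map_smul, hu, h1, h2, h3, h4, r0, r1, r2]
  exact (by decide : ∀ (a b c : ZMod 2) (v : V8), v.1 • u0 + v.2.1 • (v0 + (0, 0, (a, 0, b, 0, 0, 0))) +
      v.2.2.1 • emb e1 + v.2.2.2.1 • (emb f1 + (a, 0, (0, 0, c, 0, 0, 0))) + v.2.2.2.2.1 • emb e2 +
      v.2.2.2.2.2.1 • (emb f2 + (b, 0, (c, 0, 0, 0, 0, 0))) + v.2.2.2.2.2.2.1 • emb e3 +
      v.2.2.2.2.2.2.2 • emb f3 = tf a b c v) _ _ _ v

theorem tf_aType (a b c : ZMod 2) (v : V8) : BV (tf a b c v) v = 0 := by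
  revert a b c v; decide

theorem tf_root (a b c : ZMod 2) :
    (∀ v, BV v u0 = 0 → tf a b c v + v = 0 ∨ tf a b c v + v = u0) ∨
    (∀ v, BV v (emb e1) = 0 → tf a b c v + v = 0 ∨ tf a b c v + v = emb e1) ∨
    (∀ v, BV v (u0 + emb e1) = 0 → tf a b c v + v = 0 ∨ tf a b c v + v = u0 + emb e1) := by
  revert a b c; decide

theorem sg_e1_points {p : V8} (hp : p = u0 ∨ p = emb e1 ∨ p = u0 + emb e1) : InE (sg e1) p := by
  intro x hx
  rw [sg_apply]
  rcases hp with rfl | rfl | rfl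
  · exact (by decide : ∀ x, BV x u0 = 0 → sgf e1 x + x = 0 ∨ sgf e1 x + x = u0) x hx
  · exact (by decide : ∀ x, BV x (emb e1) = 0 → sgf e1 x + x = 0 ∨ sgf e1 x + x = emb e1) x hx
  · exact (by decide : ∀ x, BV x (u0 + emb e1) = 0 → sgf e1 x + x = 0 ∨ sgf e1 x + x = u0 + emb e1) x hx

theorem T_fix {g : Orth Q8} (hg : g ∈ Ev) (hc : g * sg w0 = sg w0 * g) (h : ∀ v, PT v → g.1 v = v) :
    ∃ y, (y = 0 ∨ y = w0 ∨ y = vd ∨ y = w0 + vd) ∧ g = sg y := by
  have hu := h u0 (by unfold PT; decide)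
  set y := (g.1 v0).2.2 with hy
  have hk := stab_split hu
  rw [← hy] at hk
  set k := sg y * g with hkdef
  set H : W6 → W6 := fun x => (g.1 (emb x)).2.2
  have hgk : g = sg y * k := stab_eq hu
  have hx : ∀ x, BW x w0 = 0 → BW x vd = 0 → BW x y = 0 ∧ H x = x := fun x a b => by
    have h1 := hk.hw x
    rw [hkdef, mul_apply, h (emb x) ⟨rfl, a, b⟩, sg_emb] at h1
    exact ⟨congrArg Prod.fst h1, (congrArg (fun z : V8 => z.2.2) h1).symm⟩
  have hyc : y = 0 ∨ y = w0 ∨ y = vd ∨ y = w0 + vd :=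
    (by decide : ∀ y : W6, BW e3 y = 0 → BW f3 y = 0 → BW (e2 + f2) y = 0 → BW (w0 + e2) y = 0 →
      y = 0 ∨ y = w0 ∨ y = vd ∨ y = w0 + vd) y (hx _ (by decide) (by decide)).1 (hx _ (by decide) (by decide)).1
      (hx _ (by decide) (by decide)).1 (hx _ (by decide) (by decide)).1
  refine ⟨y, hyc, ?_⟩
  have hw : H w0 = w0 := by
    refine sg_inj (?_ : sg (H w0) = sg w0)
    have e : g * sg w0 * g⁻¹ = sg (H w0) := by
      rw [hgk]
      calc sg y * k * sg w0 * (sg y * k)⁻¹ = sg y * (k * sg w0 * k⁻¹) * (sg y)⁻¹ := by group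
        _ = _ := by
          rw [ext_sg' hk, inv_eq_of_mul_eq_one_left (sg_sq y), sg_add, sg_add, add_comm y, add_assoc,
            w6_add_self, add_zero]
    rw [← e, hc, mul_inv_cancel_right]
  obtain ⟨z, hz⟩ : ∃ z, H vd = z := ⟨_, rfl⟩
  have hz1 : qW z = 1 := by rw [← hz]; exact (hk.qW_eq vd).trans (by decide)
  have hz2 : BW z w0 = 1 := by rw [← hz, ← hw]; exact (hk.BW_eq vd w0).trans (by decide)
  have hz3 : ∀ x, BW x w0 = 0 → BW x vd = 0 → BW z x = 0 := fun x a b => by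
    rw [← hz, ← (hx x a b).2]
    exact (hk.BW_eq vd x).trans (by rw [BW_comm, b])
  have hdec : ∀ x, H x = x + BW x w0 • (z + vd) := fun x => by
    obtain ⟨x', hx'⟩ : ∃ x', x' = x + BW x vd • w0 + BW x w0 • vd := ⟨_, rfl⟩
    obtain ⟨a, b⟩ := (by decide : ∀ x : W6, BW (x + BW x vd • w0 + BW x w0 • vd) w0 = 0 ∧
      BW (x + BW x vd • w0 + BW x w0 • vd) vd = 0) x
    rw [← hx'] at a b
    have e : x = x' + BW x vd • w0 + BW x w0 • vd := by
      rw [hx']
      exact (by decide : ∀ (c d : ZMod 2) (x : W6), x = x + c • w0 + d • vd + c • w0 + d • vd) _ _ x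
    conv_lhs => rw [e, hk.map_add, hk.map_add, (hx x' a b).2]
    have hs : ∀ (c : ZMod 2) (v : W6), H (c • v) = c • H v := fun c v => by
      rcases zcases c with rfl | rfl
      · rw [zero_smul, zero_smul]; exact (hx 0 (BW_zero_left _) (BW_zero_left _)).2
      · rw [one_smul, one_smul]
    rw [hs, hs, hw, hz, hx', smul_add]
    exact (by decide : ∀ (c d : ZMod 2) (x z : W6), x + c • w0 + d • vd + c • w0 + d • z =
      x + (d • z + d • vd)) _ _ x z
  rcases (by decide : ∀ z : W6, qW z = 1 → BW z w0 = 1 → BW z e3 = 0 → BW z f3 = 0 → BW z (e2 + f2) = 0 →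
      BW z (w0 + e2) = 0 → z = vd ∨ z = vd + w0) z hz1 hz2 (hz3 _ (by decide) (by decide))
      (hz3 _ (by decide) (by decide)) (hz3 _ (by decide) (by decide)) (hz3 _ (by decide) (by decide)) with
    e | e
  · have hk1 : k = 1 := hk.ext ⟨one_apply _, one_apply _, fun x => by
      rw [one_apply]; show emb x = emb (H x)
      rw [hdec, e, w6_add_self, smul_zero, add_zero]⟩
    rw [hgk, hk1, mul_one]
  · exfalso
    have hq : qV (emb w0) = 1 := by decide
    have hkr : k = refl Q8 (emb w0) := hk.ext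
      ⟨by rw [refl8 hq, rf_emb_u0], by rw [refl8 hq, rf_emb_v0], fun x => by
        rw [refl8 hq, rf_emb]
        show emb (rw6 w0 x) = emb (H x)
        rw [hdec, e, add_comm vd w0, add_assoc, w6_add_self, add_zero]
        rfl⟩
    exact refl_not_mem hq (hkr ▸ hkdef ▸ mul_mem (sg_mem y) hg)

end CfsgLib.CoOneType
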