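import Cfsg.Agent.Lib.CoOneType.Invol

/-!
# Facts on the normal forms
-/

set_option autoImplicit false
set_option linter.style.haveILetI false
set_option synthInstance.maxSize 20000
set_option maxRecDepth 20000

namespace CfsgLib.CoOneType

open CfsgLib.Classical.Quad

/-- The parameters of the forms with four-dimensional commutator. -/
def BigW (a : W6) : Prop := a = e3 ∨ a = f3 ∨ a = e3 + f3

/-- The class of a fixed vector modulo the commutator. -/
def cls (z : W6) : W6 := (0, 0, 0, 0, z.2.2.2.2)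

theorem cls_add (z z' : W6) : cls (z + z') = cls z + cls z' := by simp [cls]

theorem cls_hf (z : W6) : cls (hf z) = cls z := by revert z; decide

theorem cls_cases (z : W6) : cls z = 0 ∨ BigW (cls z) := by revert z; unfold BigW; decide

theorem qW_cls {z : W6} (h : hf z = z) : qW (cls z) = qW z := by revert z; decide

theorem cls_eq_zero {z : W6} (h : hf z = z) (h' : cls z = 0) : ∃ v, hf v + v = z := by revert z; decide

theorem BigW.fix {a : W6} (h : BigW a) : hf a = a ∧ cls a = a := by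
  rcases h with rfl | rfl | rfl <;> decide

theorem BigW.ne {a : W6} (h : BigW a) : a ≠ 0 := by
  rcases h with rfl | rfl | rfl <;> decide

theorem BigW.range {a : W6} (ha : BigW a) {x : V8} (hx : bf a x = x) : ∃ y, bf a y + y = x := by
  rcases ha with rfl | rfl | rfl
  · exact (by decide : ∀ x : V8, bf e3 x = x → ∃ y, bf e3 y + y = x) x hx
  · exact (by decide : ∀ x : V8, bf f3 x = x → ∃ y, bf f3 y + y = x) x hx
  · exact (by decide : ∀ x : V8, bf (e3 + f3) x = x → ∃ y, bf (e3 + f3) y + y = x) x hx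

theorem BigW.not_inE {a : W6} (ha : BigW a) {e : V8} (he : e ≠ 0) : ¬ InE (bg a) e := by
  intro h
  obtain ⟨x, h1, h2, h3⟩ : ∃ x, BV x e = 0 ∧ bf a x + x ≠ 0 ∧ bf a x + x ≠ e := by
    rcases ha with rfl | rfl | rfl
    · exact (by decide : ∀ e : V8, e ≠ 0 → ∃ x, BV x e = 0 ∧ bf e3 x + x ≠ 0 ∧ bf e3 x + x ≠ e) e he
    · exact (by decide : ∀ e : V8, e ≠ 0 → ∃ x, BV x e = 0 ∧ bf f3 x + x ≠ 0 ∧ bf f3 x + x ≠ e) e he
    · exact (by decide : ∀ e : V8, e ≠ 0 → ∃ x, BV x e = 0 ∧ bf (e3 + f3) x + x ≠ 0 ∧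
        bf (e3 + f3) x + x ≠ e) e he
  rcases h x h1 with e' | e' <;> rw [bg_apply] at e'
  exacts [h2 e', h3 e']

theorem bg_aType : AType (bg e3) ∧ AType (bg f3) ∧ ¬ AType (bg (e3 + f3)) := by
  refine ⟨fun x => ?_, fun x => ?_, fun h => ?_⟩
  · rw [bg_apply]; exact (by decide : ∀ x : V8, BV (bf e3 x) x = 0) x
  · rw [bg_apply]; exact (by decide : ∀ x : V8, BV (bf f3 x) x = 0) x
  · have := h v0
    rw [bg_apply] at this
    exact absurd this (by decide)

theorem bg_ne {a : W6} (ha : BigW a) : bg a ≠ 1 := fun h =>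
  ha.not_inE (show u0 ≠ 0 by decide) fun x _ => Or.inl (by rw [h, one_apply, v8_add_self])

theorem bg_zero : bg 0 = h0 := by rw [bg, sg_zero, one_mul]

theorem h0_aType : AType h0 := fun x => by
  rw [h0_apply]
  have : BW (hf x.2.2) x.2.2 = 0 := (by decide : ∀ x : W6, BW (hf x) x = 0) _
  simp [BV, this, CharTwo.add_self_eq_zero, mul_comm]

theorem sg_w0_not_aType : ¬ AType (sg w0) := fun h => by
  have := h v0
  rw [sg_apply] at this
  exact absurd this (by decide)

theorem BigW.cases_zero {b₁ b₂ : W6} (h₁ : BigW b₁) (h₂ : BigW b₂) (hne : b₁ ≠ b₂)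
    (hq : qW (b₁ + b₂) = 0) : b₁ = e3 + f3 ∨ b₂ = e3 + f3 := by
  rcases h₁ with rfl | rfl | rfl <;> rcases h₂ with rfl | rfl | rfl <;>
    revert hne hq <;> decide

theorem BigW.cases_one {a b₁ b₂ : W6} (ha : BigW a) (h₁ : BigW b₁) (h₂ : BigW b₂) (hne : b₁ ≠ b₂)
    (hq : qW (b₁ + b₂) = 1) : a = e3 + f3 ∨ a = b₁ ∨ a = b₂ := by
  rcases ha with rfl | rfl | rfl <;> rcases h₁ with rfl | rfl | rfl <;> rcases h₂ with rfl | rfl | rfl <;>
    revert hne hq <;> decide

end CfsgLib.CoOneType
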