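import Cfsg.Agent.Lib.CoOneType.Space

/-!
# Involutions of the orthogonal group
-/

set_option autoImplicit false
set_option linter.style.haveILetI false
set_option synthInstance.maxSize 20000
set_option synthInstance.maxHeartbeats 400000
set_option maxRecDepth 20000

namespace CfsgLib.CoOneType

open QuadraticMap (polar)
open CfsgLib.Classical.Quad CfsgLib.Orth

/-- The root involution of `W6` at the line of `e1` and `e2`. -/
def hf (x : W6) : W6 := x + BW x e2 • e1 + BW x e1 • e2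

theorem polar_e1_e2 : polar Q8 (emb e1) (emb e2) = 0 := by rw [polar_Q8]; decide

/-- The root involution, on `V8`. -/
noncomputable def h0 : Orth Q8 :=
  siegel Q8 (emb e1) (emb e2) (by rw [Q8_apply]; decide) polar_e1_e2

theorem h0_apply (x : V8) : h0.1 x = (x.1, x.2.1, hf x.2.2) := by
  rw [h0, siegel_apply, polar_Q8, polar_Q8, Q8_apply, show qV (emb e2) = 0 by decide, CharTwo.neg_eq]
  simp [hf, emb, BV, Prod.ext_iff, CharTwo.sub_eq_add, add_assoc, add_comm, add_left_comm, mul_comm]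

theorem h0_ext : Ext h0 hf :=
  ⟨by rw [h0_apply]; decide, by rw [h0_apply]; decide, fun x => h0_apply _⟩

theorem hf_hf (x : W6) : hf (hf x) = x := by revert x; decide

theorem h0_sq : h0 * h0 = 1 :=
  orth_ext fun x => by rw [mul_apply, h0_apply, h0_apply, one_apply, hf_hf]

theorem h0_move (x : V8) : h0.1 x + x = (0, 0, hf x.2.2 + x.2.2) := by
  rw [h0_apply]; simp [Prod.ext_iff, CharTwo.add_self_eq_zero]

/-- The three remaining forms, computably. -/
def bf (w : W6) (x : V8) : V8 := sgf w (x.1, x.2.1, hf x.2.2)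

/-- The three remaining forms. -/
noncomputable def bg (w : W6) : Orth Q8 := sg w * h0

theorem bg_apply (w : W6) (x : V8) : (bg w).1 x = bf w x := by
  rw [bg, mul_apply, h0_apply, sg_apply]; rfl

/-- A form with four-dimensional commutator. -/
def Big (g : Orth Q8) : Prop := g = bg e3 ∨ g = bg f3 ∨ g = bg (e3 + f3)

/-- The normal forms. -/
def Std (g : Orth Q8) : Prop := g = 1 ∨ g = sg e1 ∨ g = sg w0 ∨ Big g

/-- `g` sends every vector to one orthogonal to it. -/
def AType (g : Orth Q8) : Prop := ∀ x, BV (g.1 x) x = 0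

theorem AType.conj {g : Orth Q8} (h : AType g) (k : Orth Q8) : AType (k * g * k⁻¹) := by
  intro x
  obtain ⟨y, rfl⟩ : ∃ y, k.1 y = x := ⟨_, self_apply_inv k x⟩
  rw [mul_apply, inv_apply_self, mul_apply, BV_g]
  exact h y

theorem sq_conj' {g k : Orth Q8} (h : g * g = 1) : k * g * k⁻¹ * (k * g * k⁻¹) = 1 := by
  rw [show k * g * k⁻¹ * (k * g * k⁻¹) = k * (g * g) * k⁻¹ by group, h]; group

/-- A root involution of `W6` is conjugate to the standard one. -/
theorem conj_h0 {k : Orth Q8} {H : W6 → W6} (hk : Ext k H) (h2 : k * k = 1)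
    (ha : ∀ x, BW (H x) x = 0) (h1 : k ≠ 1) :
    ∃ c ∈ Ev, (∃ C, Ext c C) ∧ c * k * c⁻¹ = h0 := by
  have hHH : ∀ x, H (H x) = x := fun x => by
    have h := (hk.mul hk).hw x
    rw [h2, one_apply] at h
    exact (congrArg (fun z : V8 => z.2.2) h).symm
  obtain ⟨x0, hx0⟩ : ∃ x, H x ≠ x := by
    by_contra! h
    exact h1 (hk.ext ⟨one_apply _, one_apply _, fun x => by rw [one_apply, h]⟩)
  have hD : ∀ x, qW (H x + x) = 0 := fun x => by
    rw [qW_add, hk.qW_eq, ha, CharTwo.add_self_eq_zero, add_zero]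
  have hsym : ∀ x y, BW (H x + x) y = BW x (H y + y) := fun x y => by
    have e : BW (H x) y = BW x (H y) := by
      rw [← hk.BW_eq, hHH]
    rw [BW_add_left, BW_add_right, e]
  have hDD : ∀ x, H (H x + x) = H x + x := fun x => by rw [hk.map_add, hHH, add_comm]
  set e := H x0 + x0 with he
  have he0 : e ≠ 0 := fun h => hx0 (zadd_w6.1 h)
  obtain ⟨x1, hx1⟩ : ∃ y, BW e y = 1 := by
    by_contra! h
    exact he0 (BW_nd fun y => (zcases _).resolve_right (h y))
  set f := H x1 + x1 with hf'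
  have hef : BW e f = 0 := by
    rw [he, hsym, hf', hDD, w6_add_self, BW_zero_right]
  have hfx : BW f x0 = 1 := by rw [hf', hsym, ← he, BW_comm, hx1]
  have hf0 : f ≠ 0 := fun h => by rw [h, BW_zero_left] at hfx; exact zero_ne_one hfx
  have hfe : f ≠ e := fun h => by
    rw [h, he, BW_add_left, ha, BW_self] at hfx; exact absurd hfx (by decide)
  obtain ⟨a, ha', b, hb', hab⟩ := (by decide : ∀ e : W6, qW e = 0 → e ≠ 0 →
    ∃ a, qW a = 1 ∧ ∃ b, qW b = 1 ∧ rw6 a (rw6 b e) = e1) e (hD x0) he0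
  have hc1 := rr_ext ha' hb'
  set C1 : W6 → W6 := fun x => rw6 a (rw6 b x) with hC1
  have hC1i : ∀ x y, C1 x = C1 y → x = y := fun x y h => by
    have h' : (rr a b).1 (emb x) = (rr a b).1 (emb y) := by rw [hc1.hw, hc1.hw]; exact congrArg emb h
    exact congrArg (fun z : V8 => z.2.2) ((rr a b).1.injective h')
  have hC10 : C1 0 = 0 := by simp [hC1, rw6]
  obtain ⟨a', ha'', b', hb'', hfix, hab'⟩ := (by decide : ∀ f : W6, qW f = 0 → f ≠ 0 → f ≠ e1 →
    BW f e1 = 0 → ∃ a, qW a = 1 ∧ ∃ b, qW b = 1 ∧ rw6 a (rw6 b e1) = e1 ∧ rw6 a (rw6 b f) = e2) (C1 f)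
    (by rw [hc1.qW_eq]; exact hD x1) (fun h => hf0 (hC1i _ _ (h.trans hC10.symm)))
    (fun h => hfe (hC1i _ _ (h.trans hab.symm)))
    (by rw [show e1 = C1 e from hab.symm, hc1.BW_eq, BW_comm, hef])
  have hc := (rr_ext ha'' hb'').mul hc1
  set c := rr a' b' * rr a b with hcdef
  set C : W6 → W6 := (fun x => rw6 a' (rw6 b' x)) ∘ C1 with hC
  have hce : C e = e1 := by simp only [hC, Function.comp_apply, show C1 e = e1 from hab, hfix]
  have hcf : C f = e2 := by simp only [hC, Function.comp_apply, hab']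
  refine ⟨c, mul_mem (rr_mem' ha'' hb'') (rr_mem' ha' hb'), ⟨C, hc⟩, ?_⟩
  have hk' := (hc.mul hk).mul hc.inv
  have hk2 : c * k * c⁻¹ * (c * k * c⁻¹) = 1 := sq_conj' h2
  set K : W6 → W6 := (C ∘ H) ∘ fun x => ((c⁻¹).1 (emb x)).2.2 with hK
  have hKC : ∀ x, K (C x) = C (H x) := fun x => by
    simp only [hK, Function.comp_apply, ← hc.hw, inv_apply_self]; rfl
  have hKK : ∀ x, K (K x) = x := fun x => by
    have h := (hk'.mul hk').hw x
    rw [hk2, one_apply] at h
    exact (congrArg (fun z : V8 => z.2.2) h).symm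
  have hCs : ∀ y, ∃ x, C x = y := fun y => ⟨((c⁻¹).1 (emb y)).2.2, by
    have h := (hc.mul hc.inv).hw y
    rw [mul_inv_cancel, one_apply] at h
    exact (congrArg (fun z : V8 => z.2.2) h).symm⟩
  have haK : ∀ y, BW (K y) y = 0 := fun y => by
    obtain ⟨x, rfl⟩ := hCs y
    rw [hKC, hc.BW_eq, ha]
  let D : W6 →+ W6 := AddMonoidHom.mk' (fun x => K x + x) fun x y => by
    rw [hk'.map_add]; abel
  have hDsym : ∀ x y, BW (D x) y = BW x (D y) := fun x y => by
    show BW (K x + x) y = BW x (K y + y)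
    have e : BW (K x) y = BW x (K y) := by rw [← hk'.BW_eq, hKK]
    rw [BW_add_left, BW_add_right, e]
  have hDB : ∀ x, BW (D x) x = 0 := fun x => by
    show BW (K x + x) x = 0
    rw [BW_add_left, haK, BW_self, add_zero]
  have hDq : ∀ x, qW (D x) = 0 := fun x => by
    show qW (K x + x) = 0
    rw [qW_add, hk'.qW_eq, haK, CharTwo.add_self_eq_zero, add_zero]
  have hD2 : ∀ x, D (D x) = 0 := fun x => by
    show K (K x + x) + (K x + x) = 0
    rw [hk'.map_add, hKK, add_comm (K x) x]; exact w6_add_self _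
  have hDC : ∀ x, D (C x) = C (H x + x) := fun x => by
    show K (C x) + C x = _
    rw [hKC, ← hc.map_add]
  have hr1 : D (C x0) = e1 := by rw [hDC, ← he, hce]
  have hr2 : D (C x1) = e2 := by rw [hDC, ← hf', hcf]
  have hz1 : D e1 = 0 := by rw [← hr1, hD2]
  have hz2 : D e2 = 0 := by rw [← hr2, hD2]
  have hlin : ∀ x : W6, D x =
      x.2.1 • D f1 + x.2.2.2.1 • D f2 + x.2.2.2.2.1 • D e3 + x.2.2.2.2.2 • D f3 := fun x => by
    have e : x = x.1 • e1 + x.2.1 • f1 + x.2.2.1 • e2 + x.2.2.2.1 • f2 + x.2.2.2.2.1 • e3 +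
        x.2.2.2.2.2 • f3 := by simp [e1, f1, e2, f2, e3, f3, Prod.ext_iff]
    show D.toZModLinearMap 2 x = _
    conv_lhs => rw [e]
    simp only [map_add, map_smul, AddMonoidHom.coe_toZModLinearMap, hz1, hz2, smul_zero, zero_add, add_zero]
  have hperp1 : ∀ x, BW (D x) e1 = 0 := fun x => by rw [hDsym, hz1, BW_zero_right]
  have hperp2 : ∀ x, BW (D x) e2 = 0 := fun x => by rw [hDsym, hz2, BW_zero_right]
  obtain ⟨r1, r2, r3, r4⟩ := (by decide :
    ∀ a : W6, BW a e1 = 0 → BW a e2 = 0 → BW a f1 = 0 → qW a = 0 →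
    ∀ b : W6, BW b e1 = 0 → BW b e2 = 0 → BW b f2 = 0 → qW b = 0 → BW a f2 = BW b f1 →
    ∀ c : W6, BW c e1 = 0 → BW c e2 = 0 → BW c e3 = 0 → qW c = 0 → BW a e3 = BW c f1 → BW b e3 = BW c f2 →
    ∀ d : W6, BW d e1 = 0 → BW d e2 = 0 → BW d f3 = 0 → qW d = 0 → BW a f3 = BW d f1 → BW b f3 = BW d f2 →
      BW c f3 = BW d e3 →
      a.2.1 • a + a.2.2.2.1 • b + a.2.2.2.2.1 • c + a.2.2.2.2.2 • d = 0 →
      b.2.1 • a + b.2.2.2.1 • b + b.2.2.2.2.1 • c + b.2.2.2.2.2 • d = 0 →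
      c.2.1 • a + c.2.2.2.1 • b + c.2.2.2.2.1 • c + c.2.2.2.2.2 • d = 0 →
      d.2.1 • a + d.2.2.2.1 • b + d.2.2.2.2.1 • c + d.2.2.2.2.2 • d = 0 →
      (∃ i j k l : ZMod 2, i • a + j • b + k • c + l • d = e1) →
      (∃ i j k l : ZMod 2, i • a + j • b + k • c + l • d = e2) →
      a = e2 ∧ b = e1 ∧ c = 0 ∧ d = 0)
    (D f1) (hperp1 _) (hperp2 _) (hDB _) (hDq _)
    (D f2) (hperp1 _) (hperp2 _) (hDB _) (hDq _) (by rw [hDsym, BW_comm])
    (D e3) (hperp1 _) (hperp2 _) (hDB _) (hDq _) (by rw [hDsym, BW_comm]) (by rw [hDsym, BW_comm])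
    (D f3) (hperp1 _) (hperp2 _) (hDB _) (hDq _) (by rw [hDsym, BW_comm]) (by rw [hDsym, BW_comm])
      (by rw [hDsym, BW_comm])
    (by rw [← hlin, hD2]) (by rw [← hlin, hD2]) (by rw [← hlin, hD2]) (by rw [← hlin, hD2])
    ⟨_, _, _, _, (hlin (C x0)).symm.trans hr1⟩ ⟨_, _, _, _, (hlin (C x1)).symm.trans hr2⟩
  refine hk'.ext ?_
  refine ⟨h0_ext.hu, h0_ext.hv, fun x => ?_⟩
  rw [h0_ext.hw]
  refine congrArg emb (Eq.symm ?_)
  have h : K x + x = D x := rfl
  rw [w6_add_eq h, hlin, r1, r2, r3, r4, hf]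
  simp [BW, e1, e2, Prod.ext_iff, add_comm]

/-- Conjugating by a root transformation. -/
theorem bg_shift (y v : W6) : sg v * bg y * sg v = bg (y + v + hf v) := by
  rw [bg, bg, show sg v * (sg y * h0) * sg v = sg v * sg y * (h0 * sg v) by group, ext_sg h0_ext, ← mul_assoc,
    sg_add, sg_add, add_comm v y]

theorem bg_fix {y : W6} (h : bg y * bg y = 1) : hf y = y := by
  rw [bg, show sg y * h0 * (sg y * h0) = sg y * (h0 * sg y) * h0 by group, ext_sg h0_ext, ← mul_assoc,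
    sg_add, mul_assoc, h0_sq, mul_one, ← sg_zero] at h
  exact (zadd_w6.1 (sg_inj h)).symm

theorem bg_sq {y : W6} (h : hf y = y) : bg y * bg y = 1 := by
  rw [bg, show sg y * h0 * (sg y * h0) = sg y * (h0 * sg y) * h0 by group, ext_sg h0_ext, ← mul_assoc,
    sg_add, mul_assoc, h0_sq, mul_one, h, w6_add_self, sg_zero]

theorem conj_sg {y : W6} (hy : y ≠ 0) : ∃ c ∈ Ev, c * sg y * c⁻¹ = if qW y = 0 then sg e1 else sg w0 := by
  obtain ⟨a, ha, b, hb, e⟩ := (by decide : ∀ y : W6, y ≠ 0 →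
    ∃ a, qW a = 1 ∧ ∃ b, qW b = 1 ∧ rw6 a (rw6 b y) = if qW y = 0 then e1 else w0) y hy
  refine ⟨_, rr_mem' ha hb, ?_⟩
  rw [ext_sg' (rr_ext ha hb), e]
  split_ifs <;> rfl

theorem h0_inE : InE h0 (emb e1) := by
  intro x hx
  rw [h0_move]
  rcases zcases (BW x.2.2 e2) with h | h
  · left
    simp [hf, h, show BW x.2.2 e1 = 0 by simpa [BV, emb] using hx, w6_add_self]
  · right
    simp [hf, h, show BW x.2.2 e1 = 0 by simpa [BV, emb] using hx, emb, add_right_comm _ e1, w6_add_self]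

theorem h0_conj : ∃ c ∈ Ev, c * h0 * c⁻¹ = sg e1 := by
  obtain ⟨k, hk, e⟩ := ev_transitive' (show qV (emb e1) = 0 by decide) (show emb e1 ≠ 0 by decide)
    (show qV u0 = 0 from rfl) (show u0 ≠ 0 by decide)
  have hI := h0_inE.conj k
  rw [e] at hI
  have hg := eq_sg hI.fix hI
  set w := ((k * h0 * k⁻¹).1 v0).2.2 with hw
  have hA : AType h0 := fun x => by
    rw [h0_apply]
    have : BW (hf x.2.2) x.2.2 = 0 := (by decide : ∀ x : W6, BW (hf x) x = 0) _
    simp [BV, this, CharTwo.add_self_eq_zero, mul_comm]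
  have hq : qW w = 0 := by
    have := hA.conj k v0
    rw [hg, sg_v0] at this
    simpa [BV, v0] using this
  have hw0 : w ≠ 0 := fun h => by
    rw [h, sg_zero, mul_inv_eq_one, mul_eq_left] at hg
    have := congrArg (fun g : Orth Q8 => (g.1 (emb f1)).2.2) hg
    rw [h0_ext.hw, one_apply] at this
    exact absurd this (by decide)
  obtain ⟨c, hc, e'⟩ := conj_sg hw0
  rw [if_pos hq] at e'
  refine ⟨c * k, mul_mem hc hk, ?_⟩
  rw [show c * k * h0 * (c * k)⁻¹ = c * (k * h0 * k⁻¹) * c⁻¹ by group, hg, e']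

theorem h0_mem : h0 ∈ Ev := by
  obtain ⟨c, hc, e⟩ := h0_conj
  have := mul_mem (mul_mem (inv_mem hc) (sg_mem e1)) hc
  rwa [← e, show c⁻¹ * (c * h0 * c⁻¹) * c = h0 by group] at this

theorem Std.mem {g : Orth Q8} (h : Std g) : g ∈ Ev := by
  rcases h with rfl | rfl | rfl | rfl | rfl | rfl
  · exact one_mem _
  · exact sg_mem _
  · exact sg_mem _
  all_goals exact mul_mem (sg_mem _) h0_mem

/-- An involution fixing `u0` with isotropic action on the perpendicular space has a normal form. -/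
theorem std_of_stab {g : Orth Q8} (h2 : g * g = 1) (hu : g.1 u0 = u0)
    (ha : ∀ x, BV x u0 = 0 → BV (g.1 x) x = 0) : ∃ c ∈ Ev, Std (c * g * c⁻¹) := by
  set y := (g.1 v0).2.2 with hy
  have hk := stab_split hu
  rw [← hy] at hk
  set k := sg y * g with hkdef
  set H : W6 → W6 := fun x => (g.1 (emb x)).2.2 with hH
  have hgk : g = sg y * k := stab_eq hu
  have hHa : ∀ x, BW (H x) x = 0 := fun x => by
    have := ha (emb x) (BV_emb_u0 x)
    simpa [BV, emb, hH] using this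
  have hg2 : sg (y + H y) * (k * k) = 1 := by
    rw [← sg_add, ← h2, hgk, show sg y * k * (sg y * k) = sg y * (k * sg y) * k by group, ext_sg hk]
    group
  have hkk : k * k = 1 ∧ y + H y = 0 := by
    have h1 := congrArg (fun f : Orth Q8 => (f.1 v0).2.2) hg2
    rw [mul_apply, (hk.mul hk).hv, sg_v0, one_apply] at h1
    have h1' : y + H y = 0 := h1
    rw [h1', sg_zero, one_mul] at hg2
    exact ⟨hg2, h1'⟩
  by_cases hk1 : k = 1
  · rw [hgk, hk1, mul_one]
    by_cases hy0 : y = 0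
    · exact ⟨1, one_mem _, Or.inl (by rw [hy0, sg_zero]; group)⟩
    obtain ⟨c, hc, e⟩ := conj_sg hy0
    refine ⟨c, hc, ?_⟩
    rw [e]
    split_ifs
    exacts [Or.inr (Or.inl rfl), Or.inr (Or.inr (Or.inl rfl))]
  obtain ⟨c, hc, ⟨C, hC⟩, e⟩ := conj_h0 hk hkk.1 hHa hk1
  have hg' : c * g * c⁻¹ = bg (C y) := by
    rw [hgk, bg, ← e, ← ext_sg' hC]; group
  have hy' : hf (C y) = C y := bg_fix (hg' ▸ sq_conj' h2)
  obtain ⟨v, hv⟩ := (by decide : ∀ y : W6, hf y = y →
    ∃ v, y + v + hf v = (0, 0, 0, 0, y.2.2.2.2)) (C y) hy'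
  have hg'' : sg v * c * g * (sg v * c)⁻¹ = bg (C y + v + hf v) := by
    rw [← bg_shift, ← hg', mul_inv_rev, inv_eq_of_mul_eq_one_left (sg_sq v)]; group
  rw [hv] at hg''
  have hcv : sg v * c ∈ Ev := mul_mem (sg_mem v) hc
  rcases (by decide : ∀ p : ZMod 2 × ZMod 2, p = (0, 0) ∨ p = (1, 0) ∨ p = (0, 1) ∨ p = (1, 1))
    (C y).2.2.2.2 with h | h | h | h <;> rw [h] at hg''
  · obtain ⟨d, hd, hde⟩ := h0_conj
    refine ⟨d * (sg v * c), mul_mem hd hcv, Or.inr (Or.inl ?_)⟩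
    rw [show d * (sg v * c) * g * (d * (sg v * c))⁻¹ = d * (sg v * c * g * (sg v * c)⁻¹) * d⁻¹ by group,
      hg'', bg, show ((0, 0, 0, 0, 0, 0) : W6) = 0 from rfl, sg_zero, one_mul, hde]
  · exact ⟨_, hcv, Or.inr (Or.inr (Or.inr (Or.inl hg'')))⟩
  · exact ⟨_, hcv, Or.inr (Or.inr (Or.inr (Or.inr (Or.inl hg''))))⟩
  · refine ⟨_, hcv, Or.inr (Or.inr (Or.inr (Or.inr (Or.inr ?_))))⟩
    rw [hg'']
    rfl

/-- An involution with isotropic action is even. -/
theorem AType.mem {g : Orth Q8} (hA : AType g) (h2 : g * g = 1) : g ∈ Ev := by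
  by_cases h1 : g = 1
  · rw [h1]; exact one_mem _
  obtain ⟨x, hx⟩ : ∃ x, g.1 x ≠ x := by
    by_contra! h
    exact h1 (orth_ext fun x => by rw [one_apply, h])
  have hgg : ∀ x, g.1 (g.1 x) = x := fun x => by rw [← mul_apply, h2, one_apply]
  obtain ⟨k, hk, e⟩ := ev_transitive' (s := g.1 x + x)
    (by rw [qV_add, qV_g, hA, CharTwo.add_self_eq_zero, add_zero]) (fun h => hx (zadd_v8.1 h))
    (show qV u0 = 0 from rfl) (show u0 ≠ 0 by decide)
  have hfix : (k * g * k⁻¹).1 u0 = u0 := by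
    rw [← e, mul_apply, inv_apply_self, mul_apply, g_add g, hgg, add_comm x]
  obtain ⟨c, hc, hs⟩ := std_of_stab (sq_conj' h2) hfix fun y _ => hA.conj k y
  have hm := mul_mem (mul_mem (inv_mem hc) hs.mem) hc
  have hm' := mul_mem (mul_mem (inv_mem hk) hm) hk
  rwa [show k⁻¹ * (c⁻¹ * (c * (k * g * k⁻¹) * c⁻¹) * c) * k = g by group] at hm'

/-- The involutions of the commutator subgroup. -/
theorem exists_std {g : Orth Q8} (hg : g ∈ Ev) (h2 : g * g = 1) : ∃ c ∈ Ev, Std (c * g * c⁻¹) := by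
  have hgg : ∀ x, g.1 (g.1 x) = x := fun x => by rw [← mul_apply, h2, one_apply]
  let φ : V8 →+ ZMod 2 := AddMonoidHom.mk' (fun x => BV (g.1 x) x) fun x y => by
    have e : BV (g.1 y) x = BV (g.1 x) y := by
      conv_lhs => rw [← hgg x]
      rw [BV_g, BV_comm]
    rw [g_add, BV_add_left, BV_add_right, BV_add_right, e]
    linear_combination (BV (g.1 x) y) * (CharTwo.two_eq_zero (R := ZMod 2))
  set m : V8 := (φ v0, φ u0, φ (emb f1), φ (emb e1), φ (emb f2), φ (emb e2), φ (emb f3), φ (emb e3))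
    with hm
  have hφ : ∀ x, BV (g.1 x) x = BV x m := fun x => by
    show φ.toZModLinearMap 2 x = _
    conv_lhs => rw [show x = x.1 • u0 + x.2.1 • v0 + x.2.2.1 • emb e1 + x.2.2.2.1 • emb f1 +
      x.2.2.2.2.1 • emb e2 + x.2.2.2.2.2.1 • emb f2 + x.2.2.2.2.2.2.1 • emb e3 +
      x.2.2.2.2.2.2.2 • emb f3 by simp [u0, v0, emb, e1, f1, e2, f2, e3, f3, Prod.ext_iff]]
    simp only [map_add, map_smul, AddMonoidHom.coe_toZModLinearMap, smul_eq_mul, BV, BW, hm]
    ring
  have hmf : g.1 m = m := zadd_v8.1 (BV_nd fun y => by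
    rw [BV_add_left, BV_comm m y, ← hφ, zadd]
    conv_lhs => rw [← hgg y]
    rw [BV_g, BV_comm, ← hφ, hgg, BV_comm])
  rcases zcases (qV m) with hq | hq
  · by_cases hm0 : m = 0
    · have hA : AType g := fun x => by rw [hφ, hm0, BV_zero_right]
      by_cases h1 : g = 1
      · exact ⟨1, one_mem _, Or.inl (by rw [h1]; group)⟩
      obtain ⟨x, hx⟩ : ∃ x, g.1 x ≠ x := by
        by_contra! h
        exact h1 (orth_ext fun x => by rw [one_apply, h])
      obtain ⟨k, hk, e⟩ := ev_transitive' (s := g.1 x + x)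
        (by rw [qV_add, qV_g, hA, CharTwo.add_self_eq_zero, add_zero]) (fun h => hx (zadd_v8.1 h))
        (show qV u0 = 0 from rfl) (show u0 ≠ 0 by decide)
      obtain ⟨c, hc, hs⟩ := std_of_stab (sq_conj' (k := k) h2)
        (by rw [← e, mul_apply, inv_apply_self, mul_apply, g_add g, hgg, add_comm x])
        fun y _ => hA.conj k y
      exact ⟨c * k, mul_mem hc hk, by
        rwa [show c * k * g * (c * k)⁻¹ = c * (k * g * k⁻¹) * c⁻¹ by group]⟩
    obtain ⟨k, hk, e⟩ := ev_transitive' hq hm0 (show qV u0 = 0 from rfl) (show u0 ≠ 0 by decide)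
    obtain ⟨c, hc, hs⟩ := std_of_stab (sq_conj' (k := k) h2)
      (by rw [← e, mul_apply, inv_apply_self, mul_apply, hmf])
      fun y hy => by
        obtain ⟨x, rfl⟩ : ∃ x, k.1 x = y := ⟨_, self_apply_inv k y⟩
        rw [← e, BV_g] at hy
        rw [mul_apply, inv_apply_self, mul_apply, BV_g, hφ, hy]
    exact ⟨c * k, mul_mem hc hk, by
      rwa [show c * k * g * (c * k)⁻¹ = c * (k * g * k⁻¹) * c⁻¹ by group]⟩
  · exfalso
    have hτ : g * refl Q8 m * (g * refl Q8 m) = 1 := by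
      refine orth_ext fun x => ?_
      simp only [mul_apply, refl8 hq, one_apply, rf, g_add, map_smul, hmf, hgg]
      have hB : BV (g.1 x + BV x m • m) m = BV x m := by
        rw [BV_add_left, show BV (g.1 x) m = BV x m by
          conv_lhs => rw [← hmf]
          rw [BV_g]]
        rcases zcases (BV x m) with h | h <;> simp [h, BV_self]
      rw [hB, add_assoc, v8_add_self, add_zero]
    have hA : AType (g * refl Q8 m) := fun x => by
      rw [mul_apply, refl8 hq, rf, g_add, map_smul, hmf, BV_add_left, hφ]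
      rcases zcases (BV x m) with h | h
      · simp [h]
      · rw [h, one_smul, BV_comm m, h]; exact CharTwo.add_self_eq_zero _
    refine refl_not_mem hq ?_
    have := mul_mem (inv_mem hg) (hA.mem hτ)
    rwa [inv_mul_cancel_left] at this

end CfsgLib.CoOneType
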