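import Cfsg.Agent.Lib.CoOneType.Upper
import Cfsg.Agent.Lib.CoOneType.Fixers
import Mathlib.GroupTheory.Nilpotent

/-!
# The three classes of involutions differ
-/

set_option autoImplicit false
set_option linter.style.haveILetI false
set_option synthInstance.maxSize 20000
set_option maxRecDepth 20000

namespace CfsgLib.CoOneType

open CfsgLib.Classical.Quad CfsgLib.Orth

universe u

variable {G : Type u} [Group G]

/-- The elements of `E i` centralizing `d` are sent to commuting ones, not all inside `⟨d, i⟩`. -/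
def PCond (S : Sys G) (i d x : G) : Prop :=
  (∀ q ∈ S.E i, Commute q d → Commute (x * q * x⁻¹) q) ∧
    ∃ q ∈ S.E i, Commute q d ∧ ∀ b a : ZMod 2, x * q * x⁻¹ * q⁻¹ ≠ pw d b * pw i a

namespace Model

variable {S : Sys G} {s : G} {π : G → V8} (M : Model s (S.E s) π)
include M

theorem card_cent16 [Finite G] {c : G} {τ : Orth Q8} (hc : Acts s (S.E s) π c τ) (hτ : τ * τ = 1) :
    16 ≤ Nat.card {q : G // q ∈ S.E s ∧ Commute q c} := by
  classical
  refine (card_fix hτ).trans ?_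
  choose L hL hLπ using M.surj
  have hfix : ∀ v, τ.1 v = v → c * L v * c⁻¹ = L v ∨ c * L v * c⁻¹ = L v * s := fun v hv =>
    M.eq_of_map (M.normal c hc.1 _ (hL v)) (hL v) (by rw [hc.2 _ (hL v), hLπ, hv])
  by_cases hall : ∀ v, τ.1 v = v → Commute (L v) c
  · exact Nat.card_le_card_of_injective (fun v => ⟨L v.1, hL _, hall v.1 v.2⟩) fun v w h =>
      Subtype.ext (by rw [← hLπ v.1, ← hLπ w.1]; exact congrArg π (congrArg Subtype.val h))
  push Not at hall
  obtain ⟨v₁, hv₁, hn₁⟩ := hall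
  have hbad : ∀ v, τ.1 v = v → ¬ Commute (L v) c → c * L v * c⁻¹ = L v * s := fun v hv hn =>
    (hfix v hv).resolve_left fun e => hn (conj_eq_iff_commute.1 e).symm
  let f : V8 → ZMod 2 := fun v => if Commute (L v) c then 0 else 1
  have hmem : ∀ v : {v : V8 // τ.1 v = v},
      L (v.1 + f v.1 • v₁) * pw s (f v.1) ∈ S.E s ∧ Commute (L (v.1 + f v.1 • v₁) * pw s (f v.1)) c :=
    fun v => by
    refine ⟨(S.E s).mul_mem (hL _) (M.pw_mem _), Commute.mul_left ?_ (commute_pw hc.1 _).symm⟩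
    by_cases h : Commute (L v.1) c
    · simpa [f, h] using h
    have hp : Commute (L v.1 * L v₁) c := by
      refine (conj_eq_iff_commute.1 ?_).symm
      rw [show c * (L v.1 * L v₁) * c⁻¹ = c * L v.1 * c⁻¹ * (c * L v₁ * c⁻¹) by group, hbad _ v.2 h,
        hbad _ hv₁ hn₁, mul_assoc, ← mul_assoc s, ← (M.le_cent _ (hL v₁)).eq, mul_assoc, M.sq_one, mul_one]
    rcases M.eq_of_map (hL (v.1 + v₁)) ((S.E s).mul_mem (hL v.1) (hL v₁))
      (by rw [M.map_mul _ (hL _) _ (hL _), hLπ, hLπ, hLπ]) with e | e <;>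
      simp only [f, h, if_false, one_smul, e]
    exacts [hp, hp.mul_left hc.1.symm]
  refine Nat.card_le_card_of_injective (fun v => ⟨_, hmem v⟩) fun v w h => ?_
  have h' := congrArg Subtype.val h
  simp only at h'
  have h1 := congrArg π h'
  rw [M.map_mul _ (hL _) _ (M.pw_mem _), M.map_mul _ (hL _) _ (M.pw_mem _), hLπ, hLπ, M.map_pw, M.map_pw,
    add_zero, add_zero] at h1
  rw [h1, mul_right_inj] at h'
  rw [pw_inj M.ne_one h', add_left_inj] at h1
  exact Subtype.ext h1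

/-- A member of the class centralizing `s` outside `E s` has a small image. -/
theorem not_K [Finite G] {ι : Type} [Fintype ι] (hι : Fintype.card ι < 16) {x : G} {σ : Orth Q8}
    (hKs : S.K s) (hx : Acts s (S.E s) π x σ) (hn : x ∉ S.E s) {z : G} (hz : z ∈ S.E s)
    (hzσ : σ.1 (π z) = π z) (hzn : ¬ Commute x z) (P : V8 → Prop)
    (hP : ∀ q ∈ S.E s, P (π q) → Commute x q) (F : ι → V8 → V8)
    (hF : ∀ g ∈ Ev, g * σ = σ * g → (∀ v, P v → g.1 v = v) → ∃ i, ∀ v, g.1 v = F i v) : ¬ S.K x := by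
  classical
  intro hKx
  obtain ⟨hxx, hx1⟩ := S.K_sq hKx
  have hxs : x ≠ s := fun e => hn (e ▸ M.mem)
  obtain ⟨π₁, N⟩ := S.model x hKx
  have hsx : s ∉ S.E x := fun h => hn (S.mem_symm hKx hKs h hxs.symm)
  have hinter : ∀ d ∈ S.E s, d ∈ S.E x → d = 1 := by
    intro d hd hd'
    by_contra hd1
    have hds : d ≠ s := fun e => hsx (e ▸ hd')
    have hdd : d * d = 1 := by
      have h : pw s (qV (π d)) = pw x (qV (π₁ d)) := by rw [← M.square d hd, ← N.square d hd']
      rw [N.square d hd', pw_eq_pw hx1 hxs h, pw_zero]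
    have hdx : d ≠ x := fun e => hn (e ▸ hd)
    have hxd : x ∈ S.E d := S.mem_symm hKx (S.K_of_mem hKs hd hdd hd1) hd' hdx
    obtain ⟨π₂, M₂, hπ₂⟩ := M.adapted hd hdd hd1 hds
    obtain ⟨π₃, p⟩ := S.exists_pair hKs M₂ hd hdd hπ₂
    obtain ⟨w, hw⟩ := p.exists_sg hxd hx.1
    have hw0 : w ≠ 0 := fun e => hn (p.br_zero (e ▸ hw))
    have hzw : (sg w).1 (π₂ z) = π₂ z := by
      rw [← hw.2.2 z hz]
      rcases M.eq_of_map (M.normal x hx.1 z hz) hz (by rw [hx.2 z hz, hzσ]) with e | e <;> rw [e]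
      rw [M₂.map_mul z hz s M.mem, M₂.map_s, add_zero]
    have h0 : (π₂ z).2.1 = 0 ∧ BW (π₂ z).2.2 w = 0 := by
      have h := sg_move w (π₂ z)
      rw [hzw, v8_add_self] at h
      have hb : (π₂ z).2.1 = 0 := (zcases _).resolve_right fun e => hw0 (by
        rw [e, one_smul] at h
        exact (congrArg (fun v : V8 => v.2.2) h).symm)
      refine ⟨hb, ?_⟩
      have h' := congrArg Prod.fst h
      rw [hb, mul_zero, add_zero] at h'
      exact h'.symm
    have hzd : Commute z d := p.comm_of_perp hz (by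
      simp [BV, u0, h0.1])
    have hc := p.comm_rule hw hz hzd
    rw [h0.2, pw_zero, pw_zero, mul_one, mul_one] at hc
    exact hzn (conj_eq_iff_commute.1 hc)
  obtain ⟨τ, -, hτ⟩ := N.act s hx.1.symm
  have hτ2 : τ * τ = 1 := by
    have h := N.acts_mul hτ hτ
    rw [M.sq_one] at h
    exact N.acts_unique h (N.acts_mem (S.E x).one_mem)
  have h16 := N.card_cent16 hτ hτ2
  have hcomm : ∀ b ∈ S.E x, Commute b s → ∀ a ∈ S.E s, Commute x a → Commute b a := by
    intro b hb hbs a ha hax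
    refine conj_eq_iff_commute.1 (mul_inv_eq_one.1 (hinter _ ?_ ?_))
    · exact (S.E s).mul_mem (M.normal b hbs a ha) ((S.E s).inv_mem ha)
    · rw [show b * a * b⁻¹ * a⁻¹ = b * (a * b⁻¹ * a⁻¹) by group]
      exact (S.E x).mul_mem hb (N.normal a hax.symm _ ((S.E x).inv_mem hb))
  have hact : ∀ b : {q : G // q ∈ S.E x ∧ Commute q s},
      ∃ (g : Orth Q8) (i : ι), Acts s (S.E s) π b.1 g ∧ ∀ v, g.1 v = F i v := by
    rintro ⟨b, hb, hbs⟩
    obtain ⟨g, hg, hbg⟩ := M.act b hbs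
    have e1 := M.acts_mul hbg hx
    rw [(N.le_cent b hb).eq] at e1
    obtain ⟨i, hi⟩ := hF g hg (M.acts_unique e1 (M.acts_mul hx hbg)) fun v hv => by
      obtain ⟨a, ha, rfl⟩ := M.surj v
      rw [← hbg.2 a ha, conj_eq_iff_commute.2 (hcomm b hb hbs a ha (hP a ha hv))]
    exact ⟨g, i, hbg, hi⟩
  choose g code hg hcode using hact
  have hinj : Function.Injective code := fun b b' h => by
    have e : g b = g b' := orth_ext fun v => by rw [hcode, hcode, h]
    have h1 := M.acts_mul (M.acts_inv (hg b)) (hg b')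
    rw [e, inv_mul_cancel] at h1
    exact Subtype.ext (inv_mul_eq_one.1 (hinter _ (M.faith _ h1)
      ((S.E x).mul_mem ((S.E x).inv_mem b.2.1) b'.2.1)))
  have := Nat.card_le_card_of_injective code hinj
  rw [Nat.card_eq_fintype_card (α := ι)] at this
  omega

theorem w0_contra {x : G} (hx : Acts s (S.E s) π x (sg w0)) {d : G} (hd : d ∈ S.E s) (h0 : π d ≠ 0) :
    ¬ PCond S s d x := by
  rintro ⟨h1, q, hq, hqd, hne⟩
  have hb : ∀ y, BV y (π d) = 0 → y.2.1 = 0 := fun y hy => by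
    obtain ⟨r, hr, rfl⟩ := M.surj y
    have h := (M.commute_iff (M.normal x hx.1 r hr) hr).1 (h1 r hr ((M.commute_iff hr hd).2 hy))
    rw [hx.2 r hr, sg_apply] at h
    exact (by decide : ∀ y : V8, BV (sgf w0 y) y = 0 → y.2.1 = 0) _ h
  have hdu : π d = u0 := by
    by_contra hdu
    obtain ⟨y, hy, hy'⟩ := (by decide : ∀ z : V8, z ≠ 0 → z ≠ u0 → ∃ y : V8, BV y z = 0 ∧ y.2.1 = 1)
      (π d) h0 hdu
    exact absurd ((hb y hy).symm.trans hy') (by decide)
  have hn := M.normal x hx.1 q hq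
  have hr := (S.E s).mul_mem hn ((S.E s).inv_mem hq)
  have hqb := hb (π q) ((M.commute_iff hq hd).1 hqd)
  have hπ : π (x * q * x⁻¹ * q⁻¹) = (BW (π q).2.2 w0, 0, 0) := by
    rw [M.map_mul _ hn _ ((S.E s).inv_mem hq), M.map_inv hq, hx.2 q hq, sg_move, hqb]
    simp
  obtain ⟨b, hb'⟩ : ∃ b, BW (π q).2.2 w0 = b := ⟨_, rfl⟩
  rw [hb'] at hπ
  have hdb : pw d b ∈ S.E s := by
    rcases zcases b with e | e <;> rw [e]
    · rw [pw_zero]; exact (S.E s).one_mem
    · rwa [pw_one]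
  have hπb : π (pw d b) = (b, 0, 0) := by
    rcases zcases b with e | e <;> rw [e]
    · rw [pw_zero, M.map_one]; rfl
    · rw [pw_one, hdu]; rfl
  rcases M.eq_of_map hr hdb (hπ.trans hπb.symm) with e | e
  · exact hne b 0 (by rw [e, pw_zero, mul_one])
  · exact hne b 1 (by rw [e, pw_one])

/-- Coordinates in which a root involution is a root transformation. -/
theorem exists_root_pair [Finite G] (hK : S.K s) {d : G} (hd : d ∈ S.E s) (hq : qV (π d) = 0)
    (h0 : π d ≠ 0) {x : G} {g : Orth Q8} (hx : Acts s (S.E s) π x g) (hA : AType g) (hI : InE g (π d)) :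
    ∃ π₁ π₂ w, Pair S s d π₁ π₂ ∧ qW w = 0 ∧ Acts s (S.E s) π₁ x (sg w) := by
  obtain ⟨k, hk, hkd⟩ := ev_transitive hq h0
  have hkd' : (k⁻¹).1 (π d) = u0 := by rw [← hkd, inv_apply_self]
  obtain ⟨π₂, p⟩ := S.exists_pair hK (M.comp (inv_mem hk)) hd ((M.sq_eq_one hd).2 hq) hkd'
  have hI' := hI.conj k⁻¹
  rw [hkd', inv_inv] at hI'
  have hA' := hA.conj k⁻¹
  rw [inv_inv] at hA'
  have e := eq_sg hI'.fix hI'
  refine ⟨fun x => (k⁻¹).1 (π x), π₂, ((k⁻¹ * g * k).1 v0).2.2, p, ?_, hx.1, fun q hq => ?_⟩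
  · rw [e] at hA'
    have := hA' v0
    rw [sg_v0] at this
    simpa [BV, v0] using this
  · show (k⁻¹).1 (π (x * q * x⁻¹)) = _
    rw [hx.2 q hq, ← e]
    simp only [mul_apply, self_apply_inv]

end Model

namespace Pair

variable {S : Sys G} {s u : G} {π π' : G → V8} (p : Pair S s u π π')
include p

theorem rep_comm {x : G} {w v : W6} (h : Rep (S := S) (s := s) (u := u) (π := π) w v x) {q : G}
    (hq : q ∈ S.E s) (hb : (π q).2.1 = 0) (hw : BW (π q).2.2 w = 0) (hv : BW (π q).2.2 v = 0) :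
    Commute x q := by
  obtain ⟨T, Q, hT, hQ, hQπ, rfl⟩ := h
  have hqu : Commute q u := p.comm_of_perp hq (by simp [BV, u0, hb])
  have hTq : Commute T q := by
    have h := p.comm_rule hT hq hqu
    rw [hw, pw_zero, pw_zero, mul_one, mul_one] at h
    exact conj_eq_iff_commute.1 h
  have hQq : Commute Q q := (p.left.commute_iff hQ hq).2 (by
    rw [hQπ]; simp [BV, emb, hb, BW_comm v, hv])
  exact hTq.mul_left hQq

theorem rep_not_comm {x : G} {w v : W6} (h : Rep (S := S) (s := s) (u := u) (π := π) w v x) {q : G}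
    (hq : q ∈ S.E s) {y : W6} (hy : π q = emb y) (hw : BW y w = 0) (hv : BW y v = 1) :
    ¬ Commute x q := by
  obtain ⟨T, Q, hT, hQ, hQπ, rfl⟩ := h
  intro hc
  have hqu : Commute q u := p.comm_of_perp hq (by rw [hy]; exact BV_emb_u0 _)
  have hTq : Commute T q := by
    have h := p.comm_rule hT hq hqu
    rw [hy, show (emb y).2.2 = y from rfl, hw, pw_zero, pw_zero, mul_one, mul_one] at h
    exact conj_eq_iff_commute.1 h
  have hQq : Commute Q q := by
    have := hTq.inv_left.mul_left hc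
    rwa [inv_mul_cancel_left] at this
  have := (p.left.commute_iff hQ hq).1 hQq
  rw [hQπ, hy, BV_emb, BW_comm, hv] at this
  exact one_ne_zero this

/-- The standard root involution is outside the class. -/
theorem x0_not_K [Finite G] {x : G} (h : Rep (S := S) (s := s) (u := u) (π := π) e1 e2 x) : ¬ S.K x := by
  obtain ⟨-, hn, -, hA⟩ := p.rep_facts h (by decide) (by decide) (by decide)
  obtain ⟨z, hz, hzπ⟩ := p.left.surj (emb f2)
  refine p.left.not_K (ι := ZMod 2 × ZMod 2 × ZMod 2) (by decide) p.Ks hA hn hz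
    (by rw [hzπ, sg_apply]; decide) (p.rep_not_comm h hz hzπ (by decide) (by decide)) PX
    (fun q hq hP => p.rep_comm h hq hP.1 hP.2.1 hP.2.2) (fun i => tf i.1 i.2.1 i.2.2) fun g _ _ hfix => ?_
  obtain ⟨a, b, c, e⟩ := X_fix hfix
  exact ⟨(a, b, c), e⟩

/-- The other involution is outside the class. -/
theorem t0_not_K [Finite G] {x : G} (h : Rep (S := S) (s := s) (u := u) (π := π) w0 vd x) : ¬ S.K x := by
  obtain ⟨-, hn, -, hA⟩ := p.rep_facts h (by decide) (by decide) (by decide)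
  obtain ⟨z, hz, hzπ⟩ := p.left.surj (emb w0)
  refine p.left.not_K (ι := Fin 4) (by decide) p.Ks hA hn hz
    (by rw [hzπ, sg_apply]; decide) (p.rep_not_comm h hz hzπ (by decide) (by decide)) PT
    (fun q hq hP => p.rep_comm h hq hP.1 hP.2.1 hP.2.2) (fun i => sgf (![0, w0, vd, w0 + vd] i))
    fun g hg hc hfix => ?_
  obtain ⟨y, hy, rfl⟩ := T_fix hg hc hfix
  rcases hy with rfl | rfl | rfl | rfl
  exacts [⟨0, sg_apply _⟩, ⟨1, sg_apply _⟩, ⟨2, sg_apply _⟩, ⟨3, sg_apply _⟩]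

/-- A root transformation on one side is one on the other side. -/
theorem right_root {x : G} {w : W6} (hx : Acts s (S.E s) π x (sg w)) (hw : qW w = 0) (hxx : x * x = 1)
    (hxu : Commute x u) : ∃ w', qW w' = 0 ∧ Acts u (S.E u) π' x (sg w') := by
  obtain ⟨t, q, ht, hq, rfl⟩ := p.factor hx
  have hqu : Commute q u := by
    have := (p.br_comm ht).2.inv_left.mul_left hxu
    rwa [inv_mul_cancel_left] at this
  have hB : BW (π q).2.2 w = qW w := by
    by_cases hw0 : w = 0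
    · rw [hw0, BW_zero_right]; rfl
    · exact (p.criterion ht hw0 hq hxx).2.1
  have h4 := p.sq_tq ht hq hqu hB
  rw [hxx, hw, zero_add, eq_comm, pw_eq_one p.left.ne_one] at h4
  obtain ⟨w', hw'⟩ := p.symm.exists_sg hq hqu
  refine ⟨w', ?_, by simpa using p.right.acts_mul (p.right.acts_mem ht.1) hw'.2⟩
  have := p.symm.sq_rule hw'
  rw [p.left.square q hq, h4] at this
  exact (pw_inj p.left.ne_one this).symm

/-- The two possible shapes of an isotropic action on the other side. -/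
theorem split_right {x : G} (hxs : Commute x s) (hxu : Commute x u) (hxx : x * x = 1) (hA : AT S s x) :
    AT S u x ∨ PCond S u s x := by
  obtain ⟨τ, -, hτ⟩ := p.left.act x hxs
  have hτu : τ.1 u0 = u0 := by rw [← p.hu, ← hτ.2 u p.memE, conj_eq_iff_commute.2 hxu]
  have hτA := (p.left.at_iff hτ).1 hA
  by_cases hI : InE τ u0
  · left
    have e := eq_sg hτu hI
    have hq : qW (τ.1 v0).2.2 = 0 := by
      have := hτA v0
      rw [e, sg_v0] at this
      simpa [BV, v0] using this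
    obtain ⟨w', hw', hA'⟩ := p.right_root (e ▸ hτ) hq hxx hxu
    exact (p.right.at_iff hA').2 (sg_aType hw')
  right
  obtain ⟨τ', -, hτ'⟩ := p.right.act x hxu
  have hτ's : τ'.1 u0 = u0 := by rw [← p.hs, ← hτ'.2 s p.memR, conj_eq_iff_commute.2 hxs]
  obtain ⟨g, hg, -, -, hgB, hgb⟩ := p.exists_iso
  have hb : ∀ (σ : Orth Q8), σ.1 u0 = u0 → ∀ z, (σ.1 (emb z)).2.1 = 0 := fun σ hσ z => by
    have h := BV_g σ (emb z) u0
    rw [hσ, BV_emb_u0] at h
    simpa [BV, u0] using h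
  have himg : ∀ t w, Br S s u π t w → x * t * x⁻¹ ∈ S.E u ∧
      π' (x * t * x⁻¹) = (π' t).1 • u0 + τ'.1 (emb (g w)) ∧
      π' t = (π' t).1 • u0 + emb (g w) ∧ (τ'.1 (emb (g w))).2.2 = g (τ.1 (emb w)).2.2 := by
    intro t w ht
    have e : π' t = (π' t).1 • u0 + emb (g w) := by
      conv_lhs => rw [(p.right_coord ht).1, hg t w ht]
      simp [u0, emb]
    refine ⟨p.right.normal x hxu t ht.1, ?_, e, (p.equivariant hg hτ hτ' w).symm⟩
    conv_lhs => rw [hτ'.2 t ht.1, e, g_add, map_smul, hτ's]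
  refine ⟨fun q hq hqs => ?_, ?_⟩
  · obtain ⟨w, hw⟩ := p.exists_sg hq hqs
    obtain ⟨hm, e1, e2, e3⟩ := himg q w hw
    refine (p.right.commute_iff hm hq).2 ?_
    rw [e1, e2]
    have hz := hb τ' hτ's (g w)
    have h : BW (τ.1 (emb w)).2.2 w = 0 := by
      have h := hτA (emb w)
      generalize τ.1 (emb w) = y at h ⊢
      simpa [BV, emb] using h
    rw [← hgB, ← e3] at h
    generalize τ'.1 (emb (g w)) = z at hz h ⊢
    simp [BV, u0, emb, hz, h]
  · obtain ⟨w, hw⟩ : ∃ w, (τ.1 (emb w)).2.2 ≠ w := by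
      by_contra! hall
      refine hI fun y hy => ?_
      have e : y = y.1 • u0 + emb y.2.2 := by
        conv_lhs => rw [perp_u0 hy]
        simp [u0, emb]
      have hz := hb τ hτu y.2.2
      have hW := hall y.2.2
      rw [e, g_add, map_smul, hτu]
      generalize τ.1 (emb y.2.2) = z at hz hW ⊢
      rcases zcases z.1 with hz1 | hz1
      · left
        simp [u0, emb, Prod.ext_iff, hz, hW, hz1, CharTwo.add_self_eq_zero]
      · right
        simp [u0, emb, Prod.ext_iff, hz, hW, hz1, CharTwo.add_self_eq_zero]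
        rcases zcases y.1 with e' | e' <;> simp [e', CharTwo.add_self_eq_zero]
    obtain ⟨t, ht⟩ := p.exists_br w
    obtain ⟨hm, e1, e2, e3⟩ := himg t w ht
    refine ⟨t, ht.1, ht.2.1, fun b a e => hw (hgb.1 ?_)⟩
    have h := congrArg (fun v : V8 => v.2.2) (congrArg π' e)
    rw [p.right.map_mul _ hm _ ((S.E u).inv_mem ht.1), p.right.map_inv ht.1, e1, e2,
      p.right.map_mul _ (p.symm.pwu_mem b).1 _ (p.symm.pws_mem a).1, p.symm.map_pwu, p.right.map_pw] at h
    simp only [Prod.snd_add, Prod.smul_snd, e3] at h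
    simp only [u0, emb, smul_zero, zero_add, add_zero] at h
    exact zadd_w6.1 h

/-- Root involutions of the class lie in one of two subgroups. -/
theorem K_root [Finite G] {x : G} {w : W6} (hA : Acts s (S.E s) π x (sg w)) (hw : qW w = 0) (hw0 : w ≠ 0)
    (hK : S.K x) : x ∈ S.E u ∨ x ∈ S.E (u * s) := by
  obtain ⟨a, ha, b, hb, hab⟩ := (by decide : ∀ v : W6, qW v = 0 → v ≠ 0 →
    ∃ a, qW a = 1 ∧ ∃ b, qW b = 1 ∧ rw6 a (rw6 b v) = e1) w hw hw0
  obtain ⟨c, hc, hcu⟩ := p.left.lift_stab p.memE p.hu (rr_mem' ha hb) (rr_u0 ha hb)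
  have hA' : Acts s (S.E s) π (c * x * c⁻¹) (sg e1) := by
    have := p.left.acts_mul (p.left.acts_mul hc hA) (p.left.acts_inv hc)
    rwa [rr_sg ha hb, mul_inv_cancel_right, hab] at this
  obtain ⟨x0, h0⟩ := p.exists_rep e1 e2
  rcases p.classify_e1 h0 hA' (sq_conj (S.K_sq hK).1) with ⟨d, hds, hdu, hd⟩ | ⟨d, -, hd⟩
  · have hm := S.mem_conj_back p.Ku (g := d * c) (x := x)
      (by rw [show d * c * x * (d * c)⁻¹ = d * (c * x * c⁻¹) * d⁻¹ by group]; exact hd)
    have hsc : ∀ y, Commute y u → y⁻¹ * u * y = u := fun y hy => by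
      rw [hy.inv_left.eq, inv_mul_cancel_right]
    rcases hdu with hdu | hdu
    · rw [hsc _ (hdu.mul_left hcu)] at hm
      exact Or.inl hm
    · have e : (d * c)⁻¹ * u * (d * c) = u * s := by
        have h1 : d⁻¹ * u * d = u * s := by
          have h2 : d⁻¹ * (u * s) * d = u := by rw [← hdu]; group
          have h3 : d⁻¹ * s * d = s := by rw [hds.inv_left.eq, inv_mul_cancel_right]
          calc d⁻¹ * u * d = d⁻¹ * (u * s) * d * (d⁻¹ * s * d)⁻¹ := by group
            _ = u * s := by rw [h2, h3, inv_eq_of_mul_eq_one_left p.left.sq_one]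
        calc (d * c)⁻¹ * u * (d * c) = c⁻¹ * (d⁻¹ * u * d) * c := by group
          _ = c⁻¹ * u * c * (c⁻¹ * s * c) := by rw [h1]; group
          _ = u * s := by
            rw [hsc c hcu, hc.1.inv_left.eq, inv_mul_cancel_right]
      rw [e] at hm
      exact Or.inr hm
  · exact absurd (hd ▸ S.K_conj d _ (S.K_conj c x hK)) (p.x0_not_K h0)

/-- The action of the standard root involution at the other members of its fixed subgroup. -/
theorem not_other [Finite G] {x : G} (h : Rep (S := S) (s := s) (u := u) (π := π) e1 e2 x) {i : G}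
    (hKi : S.K i) (hix : Commute i x) (hc : ∀ q ∈ S.E s, Commute x q → Commute i q) :
    AT S i x ∨ ∃ d ∈ S.E i, d ≠ 1 ∧ d ≠ i ∧ PCond S i d x := by
  obtain ⟨hxx, hxn, -, hA⟩ := p.rep_facts h (by decide) (by decide) (by decide)
  obtain ⟨hii, hi1⟩ := S.K_sq hKi
  have his : Commute i s := hc s p.left.mem hA.1
  have hAT : AT S s x := (p.left.at_iff hA).2 (sg_aType (by decide))
  by_cases hiE : i ∈ S.E s
  · by_cases his' : i = s
    · exact Or.inl (his'.symm ▸ hAT)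
    obtain ⟨π₁, M₁, hπ₁⟩ := p.left.adapted hiE hii hi1 his'
    obtain ⟨π₂, p₁⟩ := S.exists_pair p.Ks M₁ hiE hii hπ₁
    rcases p₁.split_right hA.1 hix.symm hxx hAT with h | h
    · exact Or.inl h
    · exact Or.inr ⟨s, p₁.memR, p.left.ne_one, Ne.symm his', h⟩
  obtain ⟨τ, hτE, hτ⟩ := p.left.act i his
  have hfix : ∀ v, PX v → τ.1 v = v := fun v hv => by
    obtain ⟨q, hq, rfl⟩ := p.left.surj v
    rw [← hτ.2 q hq, conj_eq_iff_commute.2 (hc q hq (p.rep_comm h hq hv.1 hv.2.1 hv.2.2))]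
  obtain ⟨a, b, c, hτf⟩ := X_fix hfix
  have hτA : AType τ := fun v => by rw [hτf]; exact tf_aType a b c v
  obtain ⟨v, hv, hvI⟩ : ∃ v, (v = u0 ∨ v = emb e1 ∨ v = u0 + emb e1) ∧ InE τ v := by
    rcases tf_root a b c with e | e | e
    · exact ⟨_, Or.inl rfl, fun y hy => by rw [hτf]; exact e y hy⟩
    · exact ⟨_, Or.inr (Or.inl rfl), fun y hy => by rw [hτf]; exact e y hy⟩
    · exact ⟨_, Or.inr (Or.inr rfl), fun y hy => by rw [hτf]; exact e y hy⟩
  have hv' : PX v ∧ qV v = 0 ∧ v ≠ 0 := by rcases hv with rfl | rfl | rfl <;> unfold PX <;> decide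
  obtain ⟨d₀, hd₀, hd₀π⟩ := p.left.surj v
  obtain ⟨d, hd, hdπ, hid⟩ : ∃ d ∈ S.E s, π d = v ∧ i ∈ S.E d := by
    obtain ⟨π₁, π₂, w, p₁, hw, hA₁⟩ :=
      p.left.exists_root_pair p.Ks hd₀ (hd₀π ▸ hv'.2.1) (hd₀π ▸ hv'.2.2) hτ hτA (hd₀π ▸ hvI)
    have hw0 : w ≠ 0 := fun e => hiE (p₁.left.faith i (by rwa [e, sg_zero] at hA₁))
    rcases p₁.K_root hA₁ hw hw0 hKi with e | e
    · exact ⟨d₀, hd₀, hd₀π, e⟩
    · exact ⟨d₀ * s, (S.E s).mul_mem hd₀ p.left.mem, by
        rw [p.left.map_mul d₀ hd₀ s p.left.mem, p.left.map_s, add_zero, hd₀π], e⟩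
  have hxd : Commute x d := p.rep_comm h hd (hdπ ▸ hv'.1.1) (hdπ ▸ hv'.1.2.1) (hdπ ▸ hv'.1.2.2)
  obtain ⟨π₁, π₂, w, p₁, hw, hA₁⟩ := p.left.exists_root_pair p.Ks hd (hdπ ▸ hv'.2.1) (hdπ ▸ hv'.2.2) hA
    (sg_aType (by decide)) (hdπ.symm ▸ sg_e1_points hv)
  obtain ⟨w', hw', hA'⟩ := p₁.right_root hA₁ hw hxx hxd
  have hATd : AT S d x := (p₁.right.at_iff hA').2 (sg_aType hw')
  have hid' : i ≠ d := fun e => hiE (e ▸ hd)
  obtain ⟨π₃, M₃, hπ₃⟩ := p₁.right.adapted hid hii hi1 hid'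
  obtain ⟨π₄, p₂⟩ := S.exists_pair p₁.Ku M₃ hid hii hπ₃
  rcases p₂.split_right hxd hix.symm hxx hATd with h | h
  · exact Or.inl h
  · exact Or.inr ⟨d, p₂.memR, p₂.left.ne_one, hid'.symm, h⟩

/-- An element swapping `u` and `u * s` while centralizing the other involution. -/
theorem exists_swap {t : G} (h : Rep (S := S) (s := s) (u := u) (π := π) w0 vd t) :
    ∃ c, Commute c s ∧ Commute c t ∧ c * u * c⁻¹ = u * s := by
  obtain ⟨T, Q, hT, hQ, hQπ, rfl⟩ := h
  obtain ⟨y, hy, hyπ⟩ := p.left.surj v0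
  have hyu : y * u * y⁻¹ = u * s := by
    rw [p.left.conj_eq hy p.memE, hyπ, p.hu, show BV v0 u0 = 1 by decide, pw_one]
  obtain ⟨r, hr, her, hrπ⟩ := p.shift hT hQ hy
  rw [hyπ, hQπ] at hrπ
  have hrW : (π r).2.2 = vd + w0 := by
    rw [hrπ]; decide
  obtain ⟨a, ha, b, hb, hfix, hab⟩ := (by decide : ∃ a, qW a = 1 ∧ ∃ b, qW b = 1 ∧ rw6 a (rw6 b w0) = w0 ∧
    rw6 a (rw6 b (vd + w0)) = vd)
  obtain ⟨c, r', hc, hcu, hr', he, hW⟩ := p.move (t' := T) hT hr ha hb (hfix.symm ▸ hT)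
  rw [hrW, hab] at hW
  have hinv : T * r' * (T * r') = 1 := by
    have hxx := (p.rep_facts ⟨T, Q, hT, hQ, hQπ, rfl⟩ (show w0 ≠ 0 by decide) (show BW vd w0 = qW w0 by decide)
      (show qW vd = qW w0 by decide)).1
    rw [← he, ← her]
    exact sq_conj (sq_conj hxx)
  obtain ⟨hb', -, -⟩ := p.criterion hT (show w0 ≠ 0 by decide) hr' hinv
  obtain ⟨c', hc', hcu', he'⟩ := p.conj_rep hT (by decide) hQ hQπ hr' hb' hW (z := w0) (by decide)
    (by decide)
  refine ⟨c' * c * y, (hc'.mul_left hc).mul_left (p.left.le_cent y hy), conj_eq_iff_commute.1 ?_, ?_⟩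
  · rw [show c' * c * y * (T * Q) * (c' * c * y)⁻¹ = c' * (c * (y * (T * Q) * y⁻¹) * c⁻¹) * c'⁻¹ by group,
      her, he, he']
  · rw [show c' * c * y * u * (c' * c * y)⁻¹ = c' * c * (y * u * y⁻¹) * (c' * c)⁻¹ by group, hyu]
    exact conj_eq_iff_commute.2 ((hcu'.mul_left hcu).mul_right (hc'.mul_left hc))

/-- Some member centralizing all that centralizes the other involution is `s`. -/
theorem eq_s [Finite G] {t c : G} (h : Rep (S := S) (s := s) (u := u) (π := π) w0 vd t) {i : G}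
    (hKi : S.K i) (hit : Commute i t) (hic : Commute i c) (hcu : c * u * c⁻¹ = u * s) (hcs : Commute c s)
    (hcA : ∀ q ∈ S.E s, Commute t q → Commute i q) : i = s := by
  obtain ⟨htt, -, -, hA⟩ := p.rep_facts h (by decide) (by decide) (by decide)
  obtain ⟨hii, hi1⟩ := S.K_sq hKi
  have his : Commute i s := hcA s p.left.mem hA.1
  by_cases hiE : i ∈ S.E s
  · have hP : ∀ v, PT v → BV (π i) v = 0 := fun v hv => by
      obtain ⟨q, hq, rfl⟩ := p.left.surj v
      exact (p.left.commute_iff hiE hq).1 (hcA q hq (p.rep_comm h hq hv.1 hv.2.1 hv.2.2))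
    have hπi : π i = ((π i).1, 0, 0) :=
      (by decide : ∀ z : V8, qV z = 0 → BV z u0 = 0 → BV z (emb e3) = 0 → BV z (emb f3) = 0 →
        BV z (emb (e2 + f2)) = 0 → BV z (emb (w0 + e2)) = 0 → z = (z.1, 0, 0)) _
        ((p.left.sq_eq_one hiE).1 hii) (hP _ (by unfold PT; decide)) (hP _ (by unfold PT; decide))
        (hP _ (by unfold PT; decide)) (hP _ (by unfold PT; decide)) (hP _ (by unfold PT; decide))
    obtain ⟨a, ha⟩ := p.repr_of_map hiE hπi
    rcases zcases (π i).1 with e | e <;> rw [e] at ha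
    · rw [pw_zero, one_mul] at ha
      rcases zcases a with rfl | rfl
      · exact absurd (ha.trans (pw_zero s)) hi1
      · exact ha.trans (pw_one s)
    · exfalso
      rw [pw_one] at ha
      have h1 := conj_eq_iff_commute.2 hic.symm
      rw [ha, show c * (u * pw s a) * c⁻¹ = c * u * c⁻¹ * (c * pw s a * c⁻¹) by group, hcu,
        conj_eq_iff_commute.2 (commute_pw hcs a), mul_left_inj, mul_eq_left] at h1
      exact p.left.ne_one h1
  exfalso
  obtain ⟨τ, hτE, hτ⟩ := p.left.act i his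
  have e1 := p.left.acts_mul hτ hA
  rw [hit.eq] at e1
  obtain ⟨y, hy, rfl⟩ := T_fix hτE (p.left.acts_unique e1 (p.left.acts_mul hA hτ)) fun v hv => by
    obtain ⟨q, hq, rfl⟩ := p.left.surj v
    rw [← hτ.2 q hq, conj_eq_iff_commute.2 (hcA q hq (p.rep_comm h hq hv.1 hv.2.1 hv.2.2))]
  have hy0 : y ≠ 0 := fun e => hiE (p.left.faith i (by rwa [e, sg_zero] at hτ))
  have hq1 : qW y ≠ 0 := by
    rcases hy with rfl | rfl | rfl | rfl
    · exact absurd rfl hy0
    all_goals decide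
  obtain ⟨k, hk, hke⟩ := conj_sg hy0
  rw [if_neg hq1] at hke
  obtain ⟨d, hd⟩ := p.left.lift k hk
  have hA' := p.left.acts_mul (p.left.acts_mul hd hτ) (p.left.acts_inv hd)
  rw [hke] at hA'
  obtain ⟨d', -, hd'⟩ := p.classify_w0 h hA' (sq_conj hii)
  exact p.t0_not_K h (hd' ▸ S.K_conj d' _ (S.K_conj d i hKi))

/-- Every two-group centralizing the other involution can be moved into the centralizer of `s`. -/
theorem exists_into [Finite G] {t : G} (h : Rep (S := S) (s := s) (u := u) (π := π) w0 vd t)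
    (Q : Subgroup G) (hQ : IsPGroup 2 Q) (hQt : ∀ q ∈ Q, Commute q t) :
    ∃ g, Commute g t ∧ ∀ q ∈ Q, Commute (g * q * g⁻¹) s := by
  classical
  haveI : Fact (Nat.Prime 2) := ⟨Nat.prime_two⟩
  obtain ⟨-, -, -, hA⟩ := p.rep_facts h (by decide) (by decide) (by decide)
  obtain ⟨c, hcs, hct, hcu⟩ := p.exists_swap h
  set N : Subgroup G := Subgroup.centralizer ({s} : Set G) ⊓ Subgroup.centralizer ({t} : Set G) with hN
  have hmemN : ∀ y, y ∈ N ↔ Commute y s ∧ Commute y t := fun y => by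
    rw [hN, Subgroup.mem_inf, Subgroup.mem_centralizer_singleton_iff, Subgroup.mem_centralizer_singleton_iff]
    exact Iff.rfl
  obtain ⟨k, m, hm, hkm⟩ := Nat.exists_eq_two_pow_mul_odd (orderOf_pos c).ne'
  have hc2 : (c ^ m) ^ 2 ^ k = 1 := by rw [← pow_mul, mul_comm, ← hkm, pow_orderOf_eq_one]
  have hcmN : c ^ m ∈ N := (hmemN _).2 ⟨hcs.pow_left m, hct.pow_left m⟩
  have hcmu : c ^ m * u * (c ^ m)⁻¹ = u * s := by
    obtain ⟨j, rfl⟩ := hm
    have h2 : Commute (c ^ 2) u := conj_eq_iff_commute.1 (by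
      rw [pow_two, show c * c * u * (c * c)⁻¹ = c * (c * u * c⁻¹) * c⁻¹ by group, hcu,
        show c * (u * s) * c⁻¹ = c * u * c⁻¹ * (c * s * c⁻¹) by group, hcu, conj_eq_iff_commute.2 hcs,
        mul_assoc, p.left.sq_one, mul_one])
    rw [pow_succ', pow_mul, show c * (c ^ 2) ^ j * u * (c * (c ^ 2) ^ j)⁻¹ =
      c * ((c ^ 2) ^ j * u * ((c ^ 2) ^ j)⁻¹) * c⁻¹ by group, conj_eq_iff_commute.2 (h2.pow_left j), hcu]
  have hzp : IsPGroup 2 (Subgroup.zpowers (⟨c ^ m, hcmN⟩ : N)) := by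
    intro y
    refine ⟨k, Subtype.ext ?_⟩
    obtain ⟨i, hi⟩ := Subgroup.mem_zpowers_iff.1 y.2
    rw [SubmonoidClass.coe_pow, ← hi, OneMemClass.coe_one, ← zpow_natCast, ← zpow_mul, mul_comm, zpow_mul,
      zpow_natCast, show (⟨c ^ m, hcmN⟩ : N) ^ 2 ^ k = 1 from Subtype.ext (by simpa using hc2), one_zpow]
  obtain ⟨P, hP⟩ := hzp.exists_le_sylow
  have hEn : ((S.E s).subgroupOf N).Normal :=
    ⟨fun x hx g => p.left.normal g.1 ((hmemN g.1).1 g.2).1 x.1 hx⟩
  have hEp : IsPGroup 2 ((S.E s).subgroupOf N) := fun x =>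
    ⟨2, Subtype.ext (Subtype.ext (p.left.pow_four x.2))⟩
  have hEP := mem_sylow_of_normal hEn hEp P
  set T := (P : Subgroup N).map N.subtype with hT
  have hAT : ∀ q ∈ S.E s, Commute t q → q ∈ T := fun q hq hqt =>
    ⟨⟨q, (hmemN q).2 ⟨p.left.le_cent q hq, hqt.symm⟩⟩, hEP hq, rfl⟩
  have hcT : c ^ m ∈ T := ⟨⟨c ^ m, hcmN⟩, hP (Subgroup.mem_zpowers _), rfl⟩
  have hTN : T ≤ N := by rintro _ ⟨y, -, rfl⟩; exact y.2
  set C := Subgroup.centralizer ({t} : Set G) with hC
  have hTp : IsPGroup 2 (T.subgroupOf C) :=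
    (P.2.map N.subtype).of_equiv (Subgroup.subgroupOfEquivOfLe (hTN.trans inf_le_right)).symm
  obtain ⟨R, hR⟩ := hTp.exists_le_sylow
  set RG := (R : Subgroup C).map C.subtype with hRG
  have hTR : T ≤ RG := fun y hy => ⟨⟨y, (hTN.trans inf_le_right) hy⟩, hR hy, rfl⟩
  have hRC : RG ≤ C := by rintro _ ⟨y, -, rfl⟩; exact y.2
  have hmax : ∀ y ∈ RG, Commute y s → y ∈ T := by
    intro y hy hys
    have h1 : IsPGroup 2 ((RG ⊓ N).subgroupOf N) :=
      ((R.2.map C.subtype).to_le inf_le_left).of_equiv (Subgroup.subgroupOfEquivOfLe inf_le_right).symm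
    have h2 := P.is_maximal' h1 fun z hz => ⟨hTR ⟨z, hz, rfl⟩, z.2⟩
    have hyN : y ∈ N := (hmemN y).2 ⟨hys, Subgroup.mem_centralizer_singleton_iff.1 (hRC hy)⟩
    exact ⟨⟨y, hyN⟩, h2 ▸ (show (⟨y, hyN⟩ : N) ∈ (RG ⊓ N).subgroupOf N from ⟨hy, hyN⟩), rfl⟩
  have hRs : ∀ y ∈ RG, Commute y s := by
    by_contra! hex
    obtain ⟨y, hy, hys⟩ := hex
    haveI : Group.IsNilpotent RG := (R.2.map C.subtype).isNilpotent
    have hlt : T.subgroupOf RG < ⊤ := lt_top_iff_ne_top.2 fun e => hys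
      ((hmemN y).1 (hTN (show (⟨y, hy⟩ : RG) ∈ T.subgroupOf RG from e ▸ Subgroup.mem_top _))).1
    obtain ⟨g, hgn, hg⟩ := SetLike.exists_of_lt (Group.normalizerCondition_of_isNilpotent _ hlt)
    have hgc : ∀ q ∈ T, (g : G)⁻¹ * q * g ∈ T := fun q hq => by
      have := (Subgroup.mem_normalizer_iff.1 (inv_mem hgn) ⟨q, hTR hq⟩).1 hq
      simpa [Subgroup.mem_subgroupOf] using this
    have hgq : ∀ q ∈ T, Commute ((g : G) * s * (g : G)⁻¹) q := fun q hq => by
      have h1 := ((hmemN _).1 (hTN (hgc q hq))).1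
      show (g : G) * s * (g : G)⁻¹ * q = q * ((g : G) * s * (g : G)⁻¹)
      calc (g : G) * s * (g : G)⁻¹ * q = g * (s * ((g : G)⁻¹ * q * g)) * (g : G)⁻¹ := by group
        _ = g * ((g : G)⁻¹ * q * g * s) * (g : G)⁻¹ := by rw [h1.eq]
        _ = _ := by group
    have hgt : Commute (g : G) t := Subgroup.mem_centralizer_singleton_iff.1 (hRC g.2)
    have hit : Commute ((g : G) * s * (g : G)⁻¹) t :=
      (hgt.mul_left hA.1.symm).mul_left hgt.inv_left
    have e := p.eq_s h (S.K_conj g s p.Ks) hit (hgq _ hcT) hcmu (hcs.pow_left m)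
      fun q hq hqt => hgq q (hAT q hq hqt)
    exact hg (hmax g g.2 (conj_eq_iff_commute.1 e))
  have hQp : IsPGroup 2 (Q.subgroupOf C) :=
    hQ.of_equiv (Subgroup.subgroupOfEquivOfLe fun q hq =>
      Subgroup.mem_centralizer_singleton_iff.2 (hQt q hq).eq).symm
  obtain ⟨R', hR'⟩ := hQp.exists_le_sylow
  obtain ⟨g, hg⟩ := MulAction.exists_smul_eq C R' R
  refine ⟨g, Subgroup.mem_centralizer_singleton_iff.1 g.2, fun q hq => ?_⟩
  have hqC : q ∈ C := Subgroup.mem_centralizer_singleton_iff.2 (hQt q hq).eq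
  refine hRs _ ⟨g * ⟨q, hqC⟩ * g⁻¹, ?_, by simp⟩
  show g * ⟨q, hqC⟩ * g⁻¹ ∈ R
  rw [← hg, CfsgLib.Transfer.mem_sylow_smul_iff,
    show g⁻¹ * (g * ⟨q, hqC⟩ * g⁻¹) * g = (⟨q, hqC⟩ : C) by group]
  exact hR' hq

/-- The two classes of involutions outside the class differ. -/
theorem x0_not_t0 [Finite G] {x t : G} (hx : Rep (S := S) (s := s) (u := u) (π := π) e1 e2 x)
    (ht : Rep (S := S) (s := s) (u := u) (π := π) w0 vd t) : ¬ IsConj x t := by
  intro hconj
  obtain ⟨g, hg⟩ := isConj_iff.1 hconj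
  obtain ⟨-, -, -, hA⟩ := p.rep_facts ht (by decide) (by decide) (by decide)
  set A : Subgroup G := S.E s ⊓ Subgroup.centralizer ({x} : Set G) with hAdef
  have hAp : IsPGroup 2 A := fun q => ⟨2, Subtype.ext (p.left.pow_four q.2.1)⟩
  obtain ⟨k, hk, hks⟩ := p.exists_into ht (A.map (MulAut.conj g).toMonoidHom) (hAp.map _) (by
    rintro _ ⟨q, hq, rfl⟩
    show Commute (g * q * g⁻¹) t
    rw [← hg]
    exact Sys.commute_conj (Subgroup.mem_centralizer_singleton_iff.1 hq.2))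
  set f := k * g with hf
  have hfx : f * x * f⁻¹ = t := by
    rw [hf, show k * g * x * (k * g)⁻¹ = k * (g * x * g⁻¹) * k⁻¹ by group, hg, conj_eq_iff_commute.2 hk]
  set i := f⁻¹ * s * f with hi
  have hfi : f * i * f⁻¹ = s := by rw [hi]; group
  have hback : ∀ {a b : G}, Commute (f * a * f⁻¹) (f * b * f⁻¹) → Commute a b := fun {a b} hab => by
    have := Sys.commute_conj (g := f⁻¹) hab
    simpa [mul_assoc] using this
  have hKi : S.K i := by
    have := S.K_conj f⁻¹ s p.Ks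
    rwa [inv_inv] at this
  have hix : Commute i x := hback (by rw [hfi, hfx]; exact hA.1.symm)
  have hic : ∀ q ∈ S.E s, Commute x q → Commute i q := fun q hq hxq => hback (by
    rw [hfi]
    have := hks (g * q * g⁻¹) ⟨q, ⟨hq, Subgroup.mem_centralizer_singleton_iff.2 hxq.symm.eq⟩, rfl⟩
    rw [show f * q * f⁻¹ = k * (g * q * g⁻¹) * k⁻¹ by rw [hf]; group]
    exact this.symm)
  rcases p.not_other hx hKi hix hic with h | ⟨d, hd, hd1, hdi, h1, q, hq, hqd, hne⟩
  · have := S.AT_conj (g := f) hKi h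
    rw [hfi, hfx] at this
    exact sg_w0_not_aType ((p.left.at_iff hA).1 this)
  · have hd' : f * d * f⁻¹ ∈ S.E s := by
      have := S.mem_conj (g := f) hKi hd
      rwa [hfi] at this
    have hmem : ∀ r ∈ S.E s, f⁻¹ * r * f ∈ S.E i := fun r hr => by
      have := S.mem_conj (g := f⁻¹) p.Ks hr
      rwa [inv_inv] at this
    refine p.left.w0_contra hA hd' (fun e => ?_) ⟨fun r hr hrd => ?_, f * q * f⁻¹, ?_, Sys.commute_conj hqd,
      fun b a e => hne b a ?_⟩
    · rcases (p.left.ker _ hd').1 e with e | e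
      · exact hd1 (conj_eq_one_iff.1 e)
      · exact hdi (mul_left_cancel (mul_right_cancel (e.trans hfi.symm)))
    · have hr' : Commute (f⁻¹ * r * f) d := hback (by simpa [mul_assoc] using hrd)
      have := Sys.commute_conj (g := f) (h1 _ (hmem r hr) hr')
      rw [← hfx]
      simpa [mul_assoc] using this
    · have := S.mem_conj (g := f) hKi hq
      rwa [hfi] at this
    · have hp : ∀ (y : G) (b : ZMod 2), f⁻¹ * pw (f * y * f⁻¹) b * f = pw y b := fun y b => by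
        rcases zcases b with rfl | rfl <;> simp [pw_zero, pw_one, mul_assoc]
      rw [← hp d b, ← hp i a, hfi, show f⁻¹ * pw (f * d * f⁻¹) b * f * (f⁻¹ * pw s a * f) =
        f⁻¹ * (pw (f * d * f⁻¹) b * pw s a) * f by group, ← e, ← hfx]
      group

end Pair

end CfsgLib.CoOneType
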