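import Cfsg.Agent.Lib.CoOneType.Basic

/-!
# Two members of the class, each in the extraspecial subgroup of the other
-/

set_option autoImplicit false
set_option linter.style.haveILetI false
set_option synthInstance.maxSize 20000
set_option maxRecDepth 10000

namespace CfsgLib.CoOneType

open CfsgLib.Classical.Quad

universe u

variable {G : Type u} [Group G]

theorem pw_eq_pw {s u : G} (hu : u ≠ 1) (hne : u ≠ s) {a b : ZMod 2} (h : pw s a = pw u b) : b = 0 := by
  rcases zcases b with rfl | rfl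
  · rfl
  rcases zcases a with rfl | rfl <;> simp only [pw_zero, pw_one] at h
  exacts [absurd h.symm hu, absurd h.symm hne]

theorem rr_triple {a b : W6} (ha : qW a = 1) (hb : qW b = 1) (x y : ZMod 2) (w : W6) :
    (rr a b).1 (x, y, w) = (x, y, rw6 a (rw6 b w)) :=
  (rr_ext ha hb).apply x y w

theorem rr_emb {a b : W6} (ha : qW a = 1) (hb : qW b = 1) (x : W6) :
    (rr a b).1 (emb x) = emb (rw6 a (rw6 b x)) :=
  (rr_ext ha hb).hw x

theorem rr_u0 {a b : W6} (ha : qW a = 1) (hb : qW b = 1) : (rr a b).1 u0 = u0 :=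
  (rr_ext ha hb).hu

theorem rr_sg {a b : W6} (ha : qW a = 1) (hb : qW b = 1) (w : W6) :
    rr a b * sg w = sg (rw6 a (rw6 b w)) * rr a b :=
  ext_sg (rr_ext ha hb) w

theorem perp_u0 {v : V8} (h : BV v u0 = 0) : v = (v.1, 0, v.2.2) := by
  simp [BV, u0] at h
  simp [Prod.ext_iff, h]

theorem Model.lift_stab {s : G} {E : Subgroup G} {π : G → V8} (M : Model s E π) {u : G} (hu : u ∈ E)
    (hπ : π u = u0) {g : Orth Q8} (hg : g ∈ Ev) (hgu : g.1 u0 = u0) :
    ∃ c, Acts s E π c g ∧ Commute c u := by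
  obtain ⟨c, hc⟩ := M.lift g hg
  have hmem := M.normal c hc.1 u hu
  rcases M.eq_of_map hmem hu (by rw [hc.2 u hu, hπ, hgu]) with e | e
  · exact ⟨c, hc, conj_eq_iff_commute.1 e⟩
  · obtain ⟨y, hy, hy'⟩ := M.surj v0
    refine ⟨y * c, by simpa using M.acts_mul (M.acts_mem hy) hc, conj_eq_iff_commute.1 ?_⟩
    rw [show y * c * u * (y * c)⁻¹ = y * (c * u * c⁻¹) * y⁻¹ by group, e,
      show y * (u * s) * y⁻¹ = y * u * y⁻¹ * (y * s * y⁻¹) by group, M.conj_eq hy hu, hy', hπ,
      show BV v0 u0 = 1 from rfl, pw_one, conj_eq_iff_commute.2 (M.le_cent y hy), mul_assoc, M.sq_one,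
      mul_one]

theorem eq_one_of_fix_perp {g : Orth Q8} (h : ∀ v, BV v u0 = 0 → g.1 v = v) : g = 1 := by
  have hg := h u0 (BV_self u0)
  have e := eq_sg hg fun x hx => Or.inl (by rw [h x hx, v8_add_self])
  have hw : (g.1 v0).2.2 = 0 := BW_nd fun x => by
    have h1 := h (emb x) (BV_emb_u0 x)
    rw [e, sg_emb] at h1
    rw [BW_comm]
    exact congrArg Prod.fst h1
  rw [e, hw, sg_zero]

theorem Model.card_singular {s : G} {E : Subgroup G} {π : G → V8} (M : Model s E π) :
    Nat.card {q : G // q ∈ E ∧ qV (π q) = 0 ∧ π q ≠ 0} = 270 := by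
  choose L hL hLπ using M.surj
  let φ : {v : V8 // qV v = 0 ∧ v ≠ 0} × ZMod 2 → {q : G // q ∈ E ∧ qV (π q) = 0 ∧ π q ≠ 0} := fun k =>
    ⟨L k.1 * pw s k.2, E.mul_mem (hL _) (M.pw_mem _), by
      rw [M.map_mul _ (hL _) _ (M.pw_mem _), M.map_pw, add_zero, hLπ]; exact k.1.2⟩
  have hb : Function.Bijective φ := by
    constructor
    · rintro ⟨⟨v, hv⟩, e⟩ ⟨⟨v', hv'⟩, e'⟩ hk
      have h := congrArg Subtype.val hk
      change L v * pw s e = L v' * pw s e' at h
      have h1 := congrArg π h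
      rw [M.map_mul _ (hL _) _ (M.pw_mem _), M.map_mul _ (hL _) _ (M.pw_mem _), M.map_pw, M.map_pw, hLπ, hLπ,
        add_zero, add_zero] at h1
      subst h1
      exact Prod.ext rfl (pw_inj M.ne_one (mul_left_cancel h))
    · rintro ⟨q, hq, hs⟩
      rcases M.eq_of_map hq (hL _) (hLπ _).symm with e | e
      · exact ⟨⟨⟨_, hs⟩, 0⟩, Subtype.ext (by show _ * pw s 0 = q; rw [pw_zero, mul_one, ← e])⟩
      · exact ⟨⟨⟨_, hs⟩, 1⟩, Subtype.ext (by show _ * pw s 1 = q; rw [pw_one, ← e])⟩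
  rw [← Nat.card_eq_of_bijective φ hb, Nat.card_prod, Nat.card_zmod, Nat.card_eq_fintype_card,
    Fintype.card_subtype]
  rw [(by decide : (Finset.univ.filter fun v : V8 => qV v = 0 ∧ v ≠ 0).card = 135)]

/-- The orbit of a singular element under the centralizer. -/
theorem Model.card_cent [Finite G] {s : G} {E : Subgroup G} {π : G → V8} (M : Model s E π) {u : G}
    (hu : u ∈ E) (hπ : π u = u0) :
    Nat.card (Subgroup.centralizer ({s} : Set G)) =
      270 * Nat.card (Subgroup.centralizer ({s} : Set G) ⊓ Subgroup.centralizer ({u} : Set G) : Subgroup G) := by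
  rw [← M.card_singular, ← Nat.card_prod]
  have key : ∀ q, q ∈ E ∧ qV (π q) = 0 ∧ π q ≠ 0 → ∃ c, Commute c s ∧ c * u * c⁻¹ = q := by
    rintro q ⟨hq, h1, h2⟩
    obtain ⟨g, hg, e⟩ := ev_transitive h1 h2
    obtain ⟨c, hc⟩ := M.lift g hg
    have hmem := M.normal c hc.1 u hu
    rcases M.eq_of_map hq hmem (by rw [hc.2 u hu, hπ, e]) with e1 | e1
    · exact ⟨c, hc.1, e1.symm⟩
    · obtain ⟨v, hv⟩ := exists_BV h2
      obtain ⟨y, hy, rfl⟩ := M.surj v
      refine ⟨y * c, (M.le_cent y hy).mul_left hc.1, ?_⟩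
      rw [show y * c * u * (y * c)⁻¹ = y * (c * u * c⁻¹) * y⁻¹ by group, M.conj_eq hy hmem, hc.2 u hu, hπ, e,
        hv, pw_one, e1]
  choose c hcs hcu using key
  have hO : ∀ x, Commute x s → x * u * x⁻¹ ∈ E ∧ qV (π (x * u * x⁻¹)) = 0 ∧ π (x * u * x⁻¹) ≠ 0 := by
    intro x hx
    obtain ⟨g, -, hg⟩ := M.act x hx
    refine ⟨M.normal x hx u hu, ?_⟩
    rw [hg.2 u hu, hπ, qV_g]
    exact ⟨rfl, fun h => absurd (g.1.map_eq_zero_iff.1 h) (by decide)⟩
  refine Nat.card_congr
    { toFun := fun x => (⟨_, hO x.1 (Subgroup.mem_centralizer_singleton_iff.1 x.2)⟩,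
        ⟨(c _ (hO x.1 (Subgroup.mem_centralizer_singleton_iff.1 x.2)))⁻¹ * x.1,
          Subgroup.mem_centralizer_singleton_iff.2
            (((hcs _ _).inv_left.mul_left (Subgroup.mem_centralizer_singleton_iff.1 x.2)).eq),
          Subgroup.mem_centralizer_singleton_iff.2 (conj_eq_iff_commute.1 (by
            rw [mul_inv_rev, inv_inv, show ∀ d : G, d⁻¹ * x.1 * u * (x.1⁻¹ * d) = d⁻¹ * (x.1 * u * x.1⁻¹) * d from
              fun d => by group]
            have h := hcu _ (hO x.1 (Subgroup.mem_centralizer_singleton_iff.1 x.2))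
            calc _ = (c _ (hO x.1 (Subgroup.mem_centralizer_singleton_iff.1 x.2)))⁻¹ * (c _ (hO x.1
                  (Subgroup.mem_centralizer_singleton_iff.1 x.2)) * u * (c _ (hO x.1
                  (Subgroup.mem_centralizer_singleton_iff.1 x.2)))⁻¹) * c _ (hO x.1
                  (Subgroup.mem_centralizer_singleton_iff.1 x.2)) := by rw [h]
              _ = u := by group)).eq⟩)
      invFun := fun k => ⟨c k.1.1 k.1.2 * k.2.1, Subgroup.mem_centralizer_singleton_iff.2
        ((hcs _ _).mul_left (Subgroup.mem_centralizer_singleton_iff.1 k.2.2.1)).eq⟩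
      left_inv := fun x => Subtype.ext (mul_inv_cancel_left _ _)
      right_inv := fun k => by
        obtain ⟨⟨q, hq⟩, ⟨m, hm1, hm2⟩⟩ := k
        have hm : Commute m u := Subgroup.mem_centralizer_singleton_iff.1 hm2
        have e : c q hq * m * u * (c q hq * m)⁻¹ = q := by
          rw [show c q hq * m * u * (c q hq * m)⁻¹ = c q hq * (m * u * m⁻¹) * (c q hq)⁻¹ by group,
            conj_eq_iff_commute.2 hm, hcu]
        refine Prod.ext (Subtype.ext e) (Subtype.ext ?_)
        show (c _ _)⁻¹ * (c q hq * m) = m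
        simp only [e, inv_mul_cancel_left] }

theorem mem_sylow_of_normal {H : Type*} [Group H] [Finite H] {E : Subgroup H} (hn : E.Normal)
    (hp : IsPGroup 2 E) (P : Sylow 2 H) : E ≤ (P : Subgroup H) := by
  haveI : Fact (Nat.Prime 2) := ⟨Nat.prime_two⟩
  obtain ⟨P', hP'⟩ := hp.exists_le_sylow
  obtain ⟨g, rfl⟩ := MulAction.exists_smul_eq H P' P
  intro x hx
  show x ∈ g • P'
  rw [CfsgLib.Transfer.mem_sylow_smul_iff]
  have := hn.conj_mem x hx g⁻¹
  rw [inv_inv] at this
  exact hP' this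

/-- The membership relation is symmetric. -/
theorem Sys.mem_symm [Finite G] (S : Sys G) {s u : G} (hs : S.K s) (hu : S.K u) (hmem : u ∈ S.E s)
    (hne : u ≠ s) : s ∈ S.E u := by
  haveI : Fact (Nat.Prime 2) := ⟨Nat.prime_two⟩
  obtain ⟨π₀, M₀⟩ := S.model s hs
  obtain ⟨π, M, hπ⟩ := M₀.adapted hmem (S.K_sq hu).1 (S.K_sq hu).2 hne
  obtain ⟨π', N⟩ := S.model u hu
  have hsu : Commute s u := (M.le_cent u hmem).symm
  set Cs := Subgroup.centralizer ({s} : Set G)
  set Cu := Subgroup.centralizer ({u} : Set G) with hCu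
  obtain ⟨g0, hg0⟩ := isConj_iff.1 (S.K_isConj s u hs hu)
  have hcards : Nat.card Cs = Nat.card Cu := by
    refine (Nat.card_congr
      { toFun := fun x => ⟨g0 * x.1 * g0⁻¹, Subgroup.mem_centralizer_singleton_iff.2 ?_⟩
        invFun := fun x => ⟨g0⁻¹ * x.1 * g0, Subgroup.mem_centralizer_singleton_iff.2 ?_⟩
        left_inv := fun x => Subtype.ext (by group)
        right_inv := fun x => Subtype.ext (by group) })
    · have := Subgroup.mem_centralizer_singleton_iff.1 x.2
      rw [← hg0, show g0 * x.1 * g0⁻¹ * (g0 * s * g0⁻¹) = g0 * (x.1 * s) * g0⁻¹ by group, this]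
      group
    · have := Subgroup.mem_centralizer_singleton_iff.1 x.2
      rw [← hg0] at this
      calc g0⁻¹ * x.1 * g0 * s = g0⁻¹ * (x.1 * (g0 * s * g0⁻¹)) * g0 := by group
        _ = g0⁻¹ * (g0 * s * g0⁻¹ * x.1) * g0 := by rw [this]
        _ = s * (g0⁻¹ * x.1 * g0) := by group
  set M' := Cs.subgroupOf Cu with hM'
  have hindex : Nat.card Cu = 270 * Nat.card M' := by
    rw [← hcards, M.card_cent hmem hπ]
    congr 1
    exact Nat.card_congr
      { toFun := fun x => ⟨⟨x.1, x.2.2⟩, x.2.1⟩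
        invFun := fun x => ⟨x.1.1, x.2, x.1.2⟩
        left_inv := fun _ => rfl
        right_inv := fun _ => rfl }
  set D : Subgroup M' := ((S.E s).subgroupOf Cu).subgroupOf M' with hD
  have hDp : IsPGroup 2 D := fun q => ⟨2, Subtype.ext (Subtype.ext (Subtype.ext (by
    show (q.1.1.1 : G) ^ 4 = 1
    exact M.pow_four q.2)))⟩
  obtain ⟨P, hP⟩ := hDp.exists_le_sylow
  set T := (P : Subgroup M').map M'.subtype with hT
  have hTp : IsPGroup 2 T := P.2.map _
  obtain ⟨R, hR⟩ := hTp.exists_le_sylow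
  have hidx : (T.subgroupOf (R : Subgroup Cu)).index = 2 := by
    have h1 := R.card_eq_multiplicity
    rw [hindex, Nat.factorization_mul (by norm_num) Nat.card_pos.ne'] at h1
    have h2 : (Nat.factorization 270) 2 = 1 := by
      rw [show (270 : ℕ) = 2 * 135 from rfl, Nat.factorization_mul (by norm_num) (by norm_num),
        Finsupp.add_apply, Nat.Prime.factorization_self Nat.prime_two,
        Nat.factorization_eq_zero_of_not_dvd (show ¬ (2 : ℕ) ∣ 135 by norm_num)]
    rw [Finsupp.add_apply, h2, pow_add, pow_one, ← P.card_eq_multiplicity,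
      ← Subgroup.card_map_of_injective (f := M'.subtype) M'.subtype_injective, ← hT,
      ← Nat.card_congr (Subgroup.subgroupOfEquivOfLe hR).toEquiv] at h1
    have h3 := Subgroup.card_mul_index (T.subgroupOf (R : Subgroup Cu))
    rw [h1, mul_comm 2] at h3
    exact Nat.eq_of_mul_eq_mul_left Nat.card_pos h3
  have hTn := Subgroup.normal_of_index_eq_two hidx
  have hTs : ∀ x ∈ T, Commute (x : G) s := by
    rintro _ ⟨x, -, rfl⟩
    exact Subgroup.mem_centralizer_singleton_iff.1 x.2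
  have hDT : ∀ q ∈ S.E s, ∀ hq : Commute q u,
      (⟨q, Subgroup.mem_centralizer_singleton_iff.2 hq.eq⟩ : Cu) ∈ T := fun q hq hqu =>
    ⟨⟨⟨q, Subgroup.mem_centralizer_singleton_iff.2 hqu.eq⟩,
      Subgroup.mem_centralizer_singleton_iff.2 (M.le_cent q hq).eq⟩, hP (by exact hq), rfl⟩
  have key : ∀ y : Cu, y ∈ (R : Subgroup Cu) → (y : G) * s * (y : G)⁻¹ = s ∨ (y : G) * s * (y : G)⁻¹ = s * u := by
    intro y hy
    set s' := (y : G) * s * (y : G)⁻¹ with hs'
    have hyu : Commute (y : G) u := Subgroup.mem_centralizer_singleton_iff.1 y.2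
    have hc : ∀ q ∈ S.E s, Commute q u → Commute q s' := by
      intro q hq hqu
      have h1 := hTn.conj_mem ⟨_, hR (hDT q hq hqu)⟩ (hDT q hq hqu) ⟨y⁻¹, inv_mem hy⟩
      have h2 : Commute ((y : G)⁻¹ * q * ((y : G)⁻¹)⁻¹) s := hTs _ h1
      rw [inv_inv] at h2
      show q * s' = s' * q
      calc q * s' = (y : G) * ((y : G)⁻¹ * q * (y : G) * s) * (y : G)⁻¹ := by rw [hs']; group
        _ = (y : G) * (s * ((y : G)⁻¹ * q * (y : G))) * (y : G)⁻¹ := by rw [h2.eq]
        _ = s' * q := by rw [hs']; group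
    have hs's : Commute s' s := (hc s M.mem hsu).symm
    have hs'u : Commute s' u := (hyu.mul_left hsu).mul_left hyu.inv_left
    obtain ⟨τ, -, hτ⟩ := M.act s' hs's
    have hτ1 : τ = 1 := eq_one_of_fix_perp fun v hv => by
      obtain ⟨q, hq, rfl⟩ := M.surj v
      have hqu : Commute q u := (M.commute_iff hq hmem).2 (by rw [hπ]; exact hv)
      rw [← hτ.2 q hq, conj_eq_iff_commute.2 (hc q hq hqu).symm]
    have hmem' : s' ∈ S.E s := M.faith s' (hτ1 ▸ hτ)
    have hb := perp_u0 (show BV (π s') u0 = 0 by rw [← hπ]; exact (M.commute_iff hmem' hmem).1 hs'u)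
    have hW : (π s').2.2 = 0 := BW_nd fun x => by
      obtain ⟨q, hq, e⟩ := M.surj (emb x)
      have h1 := (M.commute_iff hmem' hq).1 (hc q hq ((M.commute_iff hq hmem).2 (by
        rw [hπ, e, BV_emb_u0]))).symm
      rw [e, hb] at h1
      simpa [BV, emb] using h1
    have hne1 : s' ≠ 1 := fun h => M.ne_one (conj_eq_one_iff.1 h)
    rcases zcases (π s').1 with h | h
    · exact Or.inl (((M.ker s' hmem').1 (by rw [hb, h, hW]; rfl)).resolve_left hne1)
    · rcases M.eq_of_map hmem' hmem (by rw [hπ, hb, h, hW]; rfl) with e | e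
      · exfalso
        refine hne (mul_left_cancel (a := (y : G)) (mul_right_cancel (b := (y : G)⁻¹) ?_))
        rw [conj_eq_iff_commute.2 hyu]; exact e.symm
      · exact Or.inr (e.trans hsu.eq.symm)
  refine N.faith s ⟨hsu, fun q hq => ?_⟩
  rw [one_apply]
  have hqu : q ∈ Cu := Subgroup.mem_centralizer_singleton_iff.2 (N.le_cent q hq).eq
  have hEp : IsPGroup 2 ((S.E u).subgroupOf Cu) := fun x => ⟨2, Subtype.ext (Subtype.ext (N.pow_four x.2))⟩
  have hEn : ((S.E u).subgroupOf Cu).Normal := ⟨fun x hx g =>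
    N.normal g.1 (Subgroup.mem_centralizer_singleton_iff.1 g.2) x.1 hx⟩
  have hq' := mem_sylow_of_normal hEn hEp R (show (⟨q, hqu⟩ : Cu) ∈ (S.E u).subgroupOf Cu from hq)
  rcases key ⟨q, hqu⟩ hq' with e | e
  · rw [conj_eq_iff_commute.2 (conj_eq_iff_commute.1 e).symm]
  · have h1 : s * q * s⁻¹ = u * q := by
      have h2 : q * s = s * u * q := by rw [← e]; group
      rw [show s⁻¹ = s from inv_eq_of_mul_eq_one_left M.sq_one, mul_assoc, h2,
        show s * (s * u * q) = s * s * (u * q) by group, M.sq_one, one_mul]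
    rw [h1, N.map_mul u N.mem q hq, N.map_s, zero_add]

/-- Two members, each in the subgroup of the other, with adapted coordinates. -/
structure Pair (S : Sys G) (s u : G) (π π' : G → V8) : Prop where
  Ks : S.K s
  Ku : S.K u
  left : Model s (S.E s) π
  right : Model u (S.E u) π'
  memE : u ∈ S.E s
  memR : s ∈ S.E u
  ne : u ≠ s
  hu : π u = u0
  hs : π' s = u0

/-- Pairs exist around every singular element. -/
theorem Sys.exists_pair [Finite G] (S : Sys G) {s u : G} (hs : S.K s) {π : G → V8} (M : Model s (S.E s) π)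
    (hu : u ∈ S.E s) (huu : u * u = 1) (hπ : π u = u0) : ∃ π', Pair S s u π π' := by
  have hu1 : u ≠ 1 := fun e => by rw [e, M.map_one] at hπ; exact absurd hπ (by decide)
  have hus : u ≠ s := fun e => by rw [e, M.map_s] at hπ; exact absurd hπ (by decide)
  have hK := S.K_of_mem hs hu huu hu1
  have hsu := S.mem_symm hs hK hu hus
  obtain ⟨π₀, N₀⟩ := S.model u hK
  obtain ⟨π', N, hN⟩ := N₀.adapted hsu M.sq_one M.ne_one hus.symm
  exact ⟨π', hs, hK, M, N, hu, hsu, hus, hπ, hN⟩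

/-- Every member lies in a pair. -/
theorem Sys.exists_pair_at [Finite G] (S : Sys G) {s : G} (hs : S.K s) :
    ∃ u π π', Pair S s u π π' := by
  obtain ⟨π₀, M₀⟩ := S.model s hs
  obtain ⟨u, hu, hus, huK⟩ := S.nwc s hs
  obtain ⟨π, M, hπ⟩ := M₀.adapted hu (S.K_sq huK).1 (S.K_sq huK).2 hus
  obtain ⟨π', p⟩ := S.exists_pair hs M hu (S.K_sq huK).1 hπ
  exact ⟨u, π, π', p⟩

/-- `t` lies in `E u`, centralizes `s` and acts by the root transformation of `w`. -/
def Br (S : Sys G) (s u : G) (π : G → V8) (t : G) (w : W6) : Prop :=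
  t ∈ S.E u ∧ Acts s (S.E s) π t (sg w)

namespace Pair

variable {S : Sys G} {s u : G} {π π' : G → V8} (p : Pair S s u π π')
include p

theorem symm : Pair S u s π' π :=
  ⟨p.Ku, p.Ks, p.right, p.left, p.memR, p.memE, p.ne.symm, p.hs, p.hu⟩

theorem comm : Commute s u := (p.left.le_cent u p.memE).symm

theorem map_pwu (c : ZMod 2) : π (pw u c) = (c, 0, 0) := by
  rcases zcases c with rfl | rfl
  · rw [pw_zero, p.left.map_one]; rfl
  · rw [pw_one, p.hu]; rfl

theorem pwu_mem (c : ZMod 2) : pw u c ∈ S.E s ∧ pw u c ∈ S.E u := by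
  refine ⟨?_, p.right.pw_mem c⟩
  rcases zcases c with rfl | rfl
  · rw [pw_zero]; exact (S.E s).one_mem
  · rw [pw_one]; exact p.memE

theorem pws_mem (c : ZMod 2) : pw s c ∈ S.E s ∧ pw s c ∈ S.E u := (p.symm.pwu_mem c).symm

theorem dd_mem (b a : ZMod 2) : pw u b * pw s a ∈ S.E s ∧ pw u b * pw s a ∈ S.E u :=
  ⟨(S.E s).mul_mem (p.pwu_mem b).1 (p.pws_mem a).1, (S.E u).mul_mem (p.pwu_mem b).2 (p.pws_mem a).2⟩

theorem map_dd (b a : ZMod 2) : π (pw u b * pw s a) = (b, 0, 0) := by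
  rw [p.left.map_mul _ (p.pwu_mem b).1 _ (p.pws_mem a).1, p.map_pwu, p.left.map_pw, add_zero]

/-- An element of `E s` with image in the line of `u0` is a product of powers of `u` and `s`. -/
theorem repr_of_map {q : G} (hq : q ∈ S.E s) {b : ZMod 2} (h : π q = (b, 0, 0)) :
    ∃ a, q = pw u b * pw s a := by
  rcases p.left.eq_of_map hq (p.pwu_mem b).1 (by rw [h, p.map_pwu]) with e | e
  · exact ⟨0, by rw [pw_zero, mul_one, e]⟩
  · exact ⟨1, by rw [pw_one, e]⟩

theorem mem_of_map {q : G} (hq : q ∈ S.E s) (h1 : (π q).2.1 = 0) (h2 : (π q).2.2 = 0) : q ∈ S.E u := by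
  obtain ⟨a, e⟩ := p.repr_of_map hq (b := (π q).1) (by ext <;> simp [h1, h2])
  rw [e]
  exact (p.dd_mem _ a).2

theorem dd_inj {b a b' a' : ZMod 2} (h : pw u b * pw s a = pw u b' * pw s a') : b = b' ∧ a = a' := by
  have h1 := congrArg π h
  rw [p.map_dd, p.map_dd] at h1
  have hb : b = b' := congrArg Prod.fst h1
  subst hb
  exact ⟨rfl, pw_inj p.left.ne_one (mul_left_cancel h)⟩

theorem perp_of_comm {q : G} (hq : q ∈ S.E s) (hc : Commute q u) : BV (π q) u0 = 0 := by
  rw [← p.hu]; exact (p.left.commute_iff hq p.memE).1 hc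

theorem comm_of_perp {q : G} (hq : q ∈ S.E s) (h : BV (π q) u0 = 0) : Commute q u :=
  (p.left.commute_iff hq p.memE).2 (by rw [p.hu]; exact h)

/-- The intersection of the two subgroups. -/
theorem inter {q : G} (hq : q ∈ S.E s) (hq' : q ∈ S.E u) : ∃ b a, q = pw u b * pw s a := by
  have hsing : ∀ r, r ∈ S.E s → r ∈ S.E u → qV (π r) = 0 := fun r hr hr' => by
    have h : pw u (qV (π' r)) = pw s (qV (π r)) := by rw [← p.right.square r hr', p.left.square r hr]
    exact pw_eq_pw p.left.ne_one p.ne.symm h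
  have hperp := perp_u0 (p.perp_of_comm hq (p.right.le_cent q hq'))
  set w := (π q).2.2 with hw
  have hwq : qW w = 0 := by
    have := hsing q hq hq'
    rw [hperp] at this
    simpa [qV] using this
  by_cases hw0 : w = 0
  · obtain ⟨a, ha⟩ := p.repr_of_map hq (b := (π q).1) (by rw [hperp, hw0])
    exact ⟨_, a, ha⟩
  exfalso
  obtain ⟨a, ha, b, hb, hab⟩ := (by decide : ∀ w : W6, qW w = 0 → w ≠ 0 →
    ∃ a, qW a = 1 ∧ ∃ b, qW b = 1 ∧ qW (w + rw6 a (rw6 b w)) = 1) w hwq hw0
  obtain ⟨c, hc, hcu⟩ := p.left.lift_stab p.memE p.hu (rr_mem' ha hb) (rr_u0 ha hb)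
  have h1 := p.left.normal c hc.1 q hq
  have h3 := hsing _ ((S.E s).mul_mem hq h1) ((S.E u).mul_mem hq' (p.right.normal c hcu q hq'))
  rw [p.left.map_mul q hq _ h1, hc.2 q hq, hperp, rr_triple ha hb] at h3
  simp only [qV, Prod.snd_add, Prod.fst_add, CharTwo.add_self_eq_zero, add_zero, zero_mul, zero_add,
    mul_zero] at h3
  rw [hab] at h3
  exact one_ne_zero h3

theorem inter_sq {d : G} (hd : d ∈ S.E s) (hd' : d ∈ S.E u) : d * d = 1 := by
  obtain ⟨b, a, rfl⟩ := p.inter hd hd'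
  have h1 : pw s a * pw u b = pw u b * pw s a := (commute_pw (commute_pw p.comm b).symm a).symm.eq
  calc pw u b * pw s a * (pw u b * pw s a) = pw u b * (pw s a * pw u b) * pw s a := by group
    _ = pw u b * pw u b * (pw s a * pw s a) := by rw [h1]; group
    _ = 1 := by
      rw [← pw_add p.right.sq_one, ← pw_add p.left.sq_one, CharTwo.add_self_eq_zero,
        CharTwo.add_self_eq_zero, pw_zero, pw_zero, mul_one]

theorem inter_comm {c d : G} (hd : d ∈ S.E s) (hd' : d ∈ S.E u) (hs : Commute c s) (hu : Commute c u) :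
    Commute c d := by
  obtain ⟨b, a, rfl⟩ := p.inter hd hd'
  exact (commute_pw hu b).mul_right (commute_pw hs a)

/-! ### The elements of `E u` centralizing `s` -/

theorem exists_sg {t : G} (ht : t ∈ S.E u) (hts : Commute t s) : ∃ w, Br S s u π t w := by
  obtain ⟨g, -, hg⟩ := p.left.act t hts
  have hgu : g.1 u0 = u0 := by
    rw [← p.hu, ← hg.2 u p.memE, conj_eq_iff_commute.2 (p.right.le_cent t ht)]
  refine ⟨_, ht, eq_sg hgu (fun x hx => ?_) ▸ hg⟩
  obtain ⟨q, hq, rfl⟩ := p.left.surj x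
  have h1 := p.left.normal t hts q hq
  have hmem : t * q * t⁻¹ * q⁻¹ ∈ S.E u := by
    rw [show t * q * t⁻¹ * q⁻¹ = t * (q * t⁻¹ * q⁻¹) by group]
    exact (S.E u).mul_mem ht (p.right.normal q (p.comm_of_perp hq hx) _ ((S.E u).inv_mem ht))
  have hmem' := (S.E s).mul_mem h1 ((S.E s).inv_mem hq)
  obtain ⟨b, a, hba⟩ := p.inter hmem' hmem
  have h2 := congrArg π hba
  rw [p.map_dd, p.left.map_mul _ h1 _ ((S.E s).inv_mem hq), p.left.map_inv hq, hg.2 q hq] at h2
  rcases zcases b with rfl | rfl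
  · exact Or.inl h2
  · exact Or.inr h2

theorem br_comm {t : G} {w : W6} (ht : Br S s u π t w) : Commute t s ∧ Commute t u :=
  ⟨ht.2.1, p.right.le_cent t ht.1⟩

theorem br_mul {t t' : G} {w w' : W6} (ht : Br S s u π t w) (ht' : Br S s u π t' w') :
    Br S s u π (t * t') (w + w') :=
  ⟨(S.E u).mul_mem ht.1 ht'.1, sg_add w w' ▸ p.left.acts_mul ht.2 ht'.2⟩

theorem br_inv {t : G} {w : W6} (ht : Br S s u π t w) : Br S s u π t⁻¹ w := by
  refine ⟨(S.E u).inv_mem ht.1, ?_⟩
  rw [show sg w = (sg w)⁻¹ from (inv_eq_of_mul_eq_one_left (sg_sq w)).symm]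
  exact p.left.acts_inv ht.2

theorem br_zero {t : G} (ht : Br S s u π t 0) : t ∈ S.E s :=
  p.left.faith t (sg_zero ▸ ht.2)

theorem br_of_inter {d : G} (hd : d ∈ S.E s) (hd' : d ∈ S.E u) : Br S s u π d 0 :=
  ⟨hd', sg_zero.symm ▸ p.left.acts_mem hd⟩

theorem br_unique {t : G} {w w' : W6} (ht : Br S s u π t w) (ht' : Br S s u π t w') : w = w' :=
  sg_inj (p.left.acts_unique ht.2 ht'.2)

theorem br_conj {t c : G} {w a b : W6} (ht : Br S s u π t w) (ha : qW a = 1) (hb : qW b = 1)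
    (hc : Acts s (S.E s) π c (rr a b)) (hcu : Commute c u) :
    Br S s u π (c * t * c⁻¹) (rw6 a (rw6 b w)) := by
  refine ⟨p.right.normal c hcu t ht.1, ?_⟩
  have h := p.left.acts_mul (p.left.acts_mul hc ht.2) (p.left.acts_inv hc)
  rwa [rr_sg ha hb, mul_inv_cancel_right] at h

theorem right_coord {t : G} {w : W6} (ht : Br S s u π t w) :
    π' t = ((π' t).1, 0, (π' t).2.2) ∧ qV (π' t) = qW (π' t).2.2 := by
  have h := perp_u0 (p.symm.perp_of_comm ht.1 ht.2.1)
  refine ⟨h, ?_⟩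
  rw [h]
  simp [qV]

theorem coord_ne {t : G} {w : W6} (ht : Br S s u π t w) (hw : w ≠ 0) : (π' t).2.2 ≠ 0 := by
  intro h
  refine hw (p.br_unique ht (p.br_of_inter (p.symm.mem_of_map ht.1 ?_ h) ht.1))
  rw [(p.right_coord ht).1]

/-- A bijection between the two coordinate spaces. -/
theorem exists_br_coord : ∃ (T : W6 → G) (f : W6 → W6), Function.Bijective f ∧
    ∀ x, Br S s u π (T x) (f x) ∧ π' (T x) = emb x := by
  choose T hT hTx using fun x => p.right.surj (emb x)
  have hTs : ∀ x, Commute (T x) s := fun x => p.symm.comm_of_perp (hT x) (by rw [hTx]; exact BV_emb_u0 x)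
  choose f hf using fun x => p.exists_sg (hT x) (hTs x)
  refine ⟨T, f, (Finite.injective_iff_bijective).1 fun x y hxy => ?_, fun x => ⟨hf x, hTx x⟩⟩
  by_contra hne
  have h := p.br_mul (hf x) (hf y)
  rw [hxy, w6_add_self] at h
  obtain ⟨b, a, hba⟩ := p.inter (p.br_zero h) h.1
  have h2 := congrArg π' hba
  rw [p.right.map_mul _ (hT x) _ (hT y), hTx, hTx, p.right.map_mul _ (p.pwu_mem b).2 _ (p.pws_mem a).2,
    p.right.map_pw, p.symm.map_pwu, zero_add] at h2
  have h3 : x + y = 0 := congrArg (fun v : V8 => v.2.2) h2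
  refine hne ?_
  rw [← add_zero x, ← w6_add_self y, ← add_assoc, h3, zero_add]

theorem exists_br (w : W6) : ∃ t, Br S s u π t w := by
  obtain ⟨T, f, hf, h⟩ := p.exists_br_coord
  obtain ⟨x, rfl⟩ := hf.2 w
  exact ⟨T x, (h x).1⟩

theorem exists_q (x : W6) : ∃ q ∈ S.E s, Commute q u ∧ π q = emb x := by
  obtain ⟨q, hq, e⟩ := p.left.surj (emb x)
  exact ⟨q, hq, p.comm_of_perp hq (by rw [e]; exact BV_emb_u0 x), e⟩

/-- The commutation rule. -/
theorem comm_rule {t : G} {w : W6} (ht : Br S s u π t w) {q : G} (hq : q ∈ S.E s) (hqu : Commute q u) :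
    t * q * t⁻¹ = q * (pw u (BW (π q).2.2 w) * pw s (BW (π q).2.2 w)) := by
  classical
  -- every such commutator lies in the intersection
  have hex : ∀ {t : G} {w : W6}, Br S s u π t w → ∀ {q : G}, q ∈ S.E s → Commute q u →
      ∃ a, t * q * t⁻¹ = q * (pw u (BW (π q).2.2 w) * pw s a) := by
    intro t w ht q hq hqu
    have h1 := p.left.normal t ht.2.1 q hq
    have hmem : q⁻¹ * (t * q * t⁻¹) ∈ S.E s := (S.E s).mul_mem ((S.E s).inv_mem hq) h1
    have hπ : π (q⁻¹ * (t * q * t⁻¹)) = (BW (π q).2.2 w, 0, 0) := by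
      rw [p.left.map_mul _ ((S.E s).inv_mem hq) _ h1, p.left.map_inv hq, ht.2.2 q hq, add_comm, sg_move,
        perp_u0 (p.perp_of_comm hq hqu)]
      simp
    obtain ⟨a, ha⟩ := p.repr_of_map hmem hπ
    exact ⟨a, inv_mul_eq_iff_eq_mul.1 ha⟩
  choose T hT using p.exists_br
  choose Qs hQs hQu hQπ using p.exists_q
  choose lam hlam using fun w a => hex (hT w) (hQs a) (hQu a)
  have hQW : ∀ a, (π (Qs a)).2.2 = a := fun a => by rw [hQπ]; rfl
  have hgen : ∀ {t : G} {w : W6}, Br S s u π t w → ∀ {q : G}, q ∈ S.E s → Commute q u →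
      t * q * t⁻¹ = q * (pw u (BW (π q).2.2 w) * pw s (lam w (π q).2.2)) := by
    intro t w ht q hq hqu
    obtain ⟨a, ha⟩ : ∃ a, (π q).2.2 = a := ⟨_, rfl⟩
    rw [ha]
    obtain ⟨d, rfl⟩ : ∃ d, t = T w * d := ⟨(T w)⁻¹ * t, by group⟩
    obtain ⟨e, rfl⟩ : ∃ e, q = Qs a * e := ⟨(Qs a)⁻¹ * q, by group⟩
    have hd0 := p.br_mul (p.br_inv (hT w)) ht
    rw [inv_mul_cancel_left, w6_add_self] at hd0
    have he : e ∈ S.E s := by
      have := (S.E s).mul_mem ((S.E s).inv_mem (hQs a)) hq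
      rwa [inv_mul_cancel_left] at this
    have heu : Commute e u := by
      have := (hQu a).inv_left.mul_left hqu
      rwa [inv_mul_cancel_left] at this
    have hW : (π e).2.2 = 0 := by
      have h := ha
      rw [p.left.map_mul _ (hQs a) _ he, Prod.snd_add, Prod.snd_add, hQW] at h
      exact (add_eq_left.1 h : (π e).2.2 = 0)
    have he' : e ∈ S.E u := p.mem_of_map he (by rw [perp_u0 (p.perp_of_comm he heu)]) hW
    have h1 : Commute (Qs a * e) d :=
      p.inter_comm (p.br_zero hd0) hd0.1 (p.left.le_cent _ hq) hqu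
    have h2 : Commute (T w) e := p.inter_comm he he' (hT w).2.1 (p.br_comm (hT w)).2
    have h3 : Commute e (pw u (BW a w) * pw s (lam w a)) :=
      p.inter_comm (p.dd_mem _ _).1 (p.dd_mem _ _).2 (p.left.le_cent e he) heu
    calc T w * d * (Qs a * e) * (T w * d)⁻¹ = T w * (d * (Qs a * e) * d⁻¹) * (T w)⁻¹ := by group
      _ = T w * Qs a * (T w)⁻¹ * (T w * e * (T w)⁻¹) := by rw [conj_eq_iff_commute.2 h1.symm]; group
      _ = Qs a * (pw u (BW a w) * pw s (lam w a)) * e := by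
        rw [hlam, hQW, conj_eq_iff_commute.2 h2]
      _ = Qs a * e * (pw u (BW a w) * pw s (lam w a)) := by rw [mul_assoc, ← h3.eq, mul_assoc]
  have hfix : ∀ {c : G} (b a : ZMod 2), Commute c s → Commute c u →
      c * (pw u b * pw s a) * c⁻¹ = pw u b * pw s a := fun b a hs hu =>
    conj_eq_iff_commute.2 ((commute_pw hu b).mul_right (commute_pw hs a))
  have hadd_w : ∀ w w' a, lam (w + w') a = lam w a + lam w' a := by
    intro w w' a
    have h := hgen (p.br_mul (hT w) (hT w')) (hQs a) (hQu a)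
    rw [show T w * T w' * Qs a * (T w * T w')⁻¹ = T w * (T w' * Qs a * (T w')⁻¹) * (T w)⁻¹ by group,
      hlam w', show T w * (Qs a * (pw u (BW (π (Qs a)).2.2 w') * pw s (lam w' a))) * (T w)⁻¹ =
        T w * Qs a * (T w)⁻¹ * (T w * (pw u (BW (π (Qs a)).2.2 w') * pw s (lam w' a)) * (T w)⁻¹) by group,
      hlam w, hfix _ _ (hT w).2.1 (p.br_comm (hT w)).2, hQW, mul_assoc, mul_right_inj] at h
    have hcc : Commute (pw s (lam w a)) (pw u (BW a w')) :=
      (commute_pw (commute_pw p.comm _).symm _).symm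
    rw [show pw u (BW a w) * pw s (lam w a) * (pw u (BW a w') * pw s (lam w' a)) =
      pw u (BW a w) * (pw s (lam w a) * pw u (BW a w')) * pw s (lam w' a) by group, hcc.eq,
      ← mul_assoc (pw u (BW a w)), ← pw_add p.right.sq_one, mul_assoc, ← pw_add p.left.sq_one,
      ← BW_add_right] at h
    exact (p.dd_inj h).2.symm
  have hadd_a : ∀ w a a', lam w (a + a') = lam w a + lam w a' := by
    intro w a a'
    have hmem := (S.E s).mul_mem (hQs a) (hQs a')
    have hcu := (hQu a).mul_left (hQu a')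
    have h := hgen (hT w) hmem hcu
    rw [show T w * (Qs a * Qs a') * (T w)⁻¹ = T w * Qs a * (T w)⁻¹ * (T w * Qs a' * (T w)⁻¹) by group,
      hlam, hlam, p.left.map_mul _ (hQs a) _ (hQs a'), Prod.snd_add, Prod.snd_add, hQW, hQW] at h
    have hc' : Commute (pw u (BW a w) * pw s (lam w a)) (Qs a') :=
      ((commute_pw (hQu a') _).mul_right (commute_pw (p.left.le_cent _ (hQs a')) _)).symm
    have hcc : Commute (pw s (lam w a)) (pw u (BW a' w)) :=
      (commute_pw (commute_pw p.comm _).symm _).symm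
    rw [show Qs a * (pw u (BW a w) * pw s (lam w a)) * (Qs a' * (pw u (BW a' w) * pw s (lam w a'))) =
      Qs a * ((pw u (BW a w) * pw s (lam w a)) * Qs a') * (pw u (BW a' w) * pw s (lam w a')) by group,
      hc'.eq, ← mul_assoc (Qs a), mul_assoc (Qs a * Qs a'), mul_right_inj,
      show pw u (BW a w) * pw s (lam w a) * (pw u (BW a' w) * pw s (lam w a')) =
      pw u (BW a w) * (pw s (lam w a) * pw u (BW a' w)) * pw s (lam w a') by group, hcc.eq,
      ← mul_assoc (pw u (BW a w)), ← pw_add p.right.sq_one, mul_assoc, ← pw_add p.left.sq_one,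
      ← BW_add_left] at h
    exact (p.dd_inj h).2.symm
  have hinv : ∀ {a b : W6}, qW a = 1 → qW b = 1 → ∀ w x,
      lam (rw6 a (rw6 b w)) (rw6 a (rw6 b x)) = lam w x := by
    intro a b ha hb w x
    obtain ⟨c, hc, hcu⟩ := p.left.lift_stab p.memE p.hu (rr_mem' ha hb) (rr_u0 ha hb)
    have hmem := p.left.normal c hc.1 _ (hQs x)
    have hmu : Commute (c * Qs x * c⁻¹) u := (hcu.mul_left (hQu x)).mul_left hcu.inv_left
    have h := hgen (p.br_conj (hT w) ha hb hc hcu) hmem hmu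
    rw [show c * T w * c⁻¹ * (c * Qs x * c⁻¹) * (c * T w * c⁻¹)⁻¹ = c * (T w * Qs x * (T w)⁻¹) * c⁻¹ by group,
      hlam, hQW, show c * (Qs x * (pw u (BW x w) * pw s (lam w x))) * c⁻¹ =
        c * Qs x * c⁻¹ * (c * (pw u (BW x w) * pw s (lam w x)) * c⁻¹) by group,
      hfix _ _ hc.1 hcu, mul_right_inj, hc.2 _ (hQs x), hQπ, rr_emb ha hb] at h
    exact (p.dd_inj h).2.symm
  have h0 : ∀ x, lam 0 x = 0 := fun x => by
    have := hadd_w 0 0 x
    rwa [add_zero, left_eq_add] at this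
  have hsing1 : ∀ x, lam e1 x = BW x e1 := by
    set v := e1 with hv'
    have hv0 : v ≠ 0 := by decide
    set y : W6 := (lam v f1, lam v e1, lam v f2, lam v e2, lam v f3, lam v e3) with hy
    have hlin : ∀ x, lam v x = BW x y := by
      intro x
      let L : W6 →+ ZMod 2 := AddMonoidHom.mk' (lam v) (hadd_a v)
      show (L.toZModLinearMap 2) x = _
      conv_lhs => rw [show x = x.1 • e1 + x.2.1 • f1 + x.2.2.1 • e2 + x.2.2.2.1 • f2 + x.2.2.2.2.1 • e3 +
        x.2.2.2.2.2 • f3 by simp [e1, f1, e2, f2, e3, f3, Prod.ext_iff]]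
      simp only [map_add, map_smul, AddMonoidHom.coe_toZModLinearMap, L, AddMonoidHom.mk'_apply, smul_eq_mul,
        BW, hy]
      ring
    have hy0 : y ≠ 0 := by
      intro hy0
      refine p.coord_ne (hT v) hv0 ?_
      have hperp : ∀ w', BW (π' (T v)).2.2 w' = 0 := by
        intro w'
        obtain ⟨q, hq'⟩ := p.symm.exists_br w'
        have hq := p.symm.br_inv hq'
        have h := hgen (hT v) hq'.1 hq'.2.1
        rw [hlin, hy0, BW_zero_right, pw_zero, mul_one] at h
        have h2 : q⁻¹ * T v * q⁻¹⁻¹ = pw u (BW (π q).2.2 v) * T v := by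
          calc q⁻¹ * T v * q⁻¹⁻¹ = q⁻¹ * (T v * q * (T v)⁻¹) * T v := by group
            _ = _ := by rw [h]; group
        have h3 := congrArg π' h2
        rw [hq.2.2 _ (hT v).1, p.right.map_mul _ (p.pwu_mem _).2 _ (hT v).1, p.right.map_pw, zero_add,
          ← zadd_v8] at h3
        rw [sg_move, (p.right_coord (hT v)).1] at h3
        simpa using congrArg Prod.fst h3
      exact BW_nd hperp
    have hyv : y = v := by
      by_contra hne
      obtain ⟨a, ha, b, hb, hfixv, hmove⟩ := (by decide : ∀ y : W6, y ≠ 0 → y ≠ e1 →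
        ∃ a, qW a = 1 ∧ ∃ b, qW b = 1 ∧ rw6 a (rw6 b e1) = e1 ∧ rw6 a (rw6 b y) ≠ y)
        y hy0 hne
      refine hmove (zadd_w6.1 (BW_nd fun z => ?_))
      obtain ⟨z, rfl⟩ : ∃ x, rw6 a (rw6 b x) = z := ⟨((rr a b)⁻¹.1 (emb z)).2.2, by
        have h := ((rr_ext ha hb).mul (rr_ext ha hb).inv).hw z
        rw [mul_inv_cancel, one_apply] at h
        exact (congrArg (fun z : V8 => z.2.2) h).symm⟩
      rw [BW_comm, BW_add_right, (rr_ext ha hb).BW_eq z y, ← hlin, ← hlin]
      have e := hinv ha hb v z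
      rw [hv', hfixv, ← hv'] at e
      rw [e]; exact CharTwo.add_self_eq_zero _
    intro x; rw [hlin, hyv]
  have hsing : ∀ v, qW v = 0 → ∀ x, lam v x = BW x v := by
    intro v hv x
    by_cases hv0 : v = 0
    · rw [hv0, h0, BW_zero_right]
    obtain ⟨a, ha, b, hb, e⟩ := (by decide : ∀ v : W6, qW v = 0 → v ≠ 0 →
      ∃ a, qW a = 1 ∧ ∃ b, qW b = 1 ∧ rw6 a (rw6 b v) = e1) v hv hv0
    rw [← hinv ha hb v x, e, hsing1, ← e]
    exact (rr_ext ha hb).BW_eq x v
  have hall : ∀ w x, lam w x = BW x w := by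
    intro w x
    obtain ⟨v, hv, hv'⟩ := (by decide : ∀ w : W6, ∃ v, qW v = 0 ∧ qW (w + v) = 0) w
    have e : w = (w + v) + v := by rw [add_assoc, w6_add_self, add_zero]
    conv_lhs => rw [e, hadd_w, hsing _ hv', hsing v hv, ← BW_add_right, ← e]
  rw [hgen ht hq hqu, hall]

/-- The squares in `E u`. -/
theorem sq_rule {t : G} {w : W6} (ht : Br S s u π t w) : t * t = pw u (qW w) := by
  obtain ⟨y, hy, hyπ⟩ := p.left.surj v0
  set r := t⁻¹ * (y * t * y⁻¹) with hr
  have h1 := p.left.normal t⁻¹ ht.2.1.inv_left y hy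
  have hr' : r = t⁻¹ * y * t⁻¹⁻¹ * y⁻¹ := by rw [hr]; group
  have hrE : r ∈ S.E s := hr' ▸ (S.E s).mul_mem h1 ((S.E s).inv_mem hy)
  have hrπ : π r = (qW w, 0, w) := by
    rw [hr', p.left.map_mul _ h1 _ ((S.E s).inv_mem hy), p.left.map_inv hy, (p.br_inv ht).2.2 y hy, hyπ,
      sg_move]
    simp [v0]
  have hru : Commute r u := p.comm_of_perp hrE (by rw [hrπ]; simp [BV, u0])
  have htr : t * r * t⁻¹ = r := by
    rw [p.comm_rule ht hrE hru, hrπ, BW_self, pw_zero, pw_zero, mul_one, mul_one]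
  set f := qV (π' t) with hf
  have hsq : t * t = pw u f := p.right.square t ht.1
  have hconj : y * t * y⁻¹ = t * r := by rw [hr]; group
  have hyu : y * u * y⁻¹ = u * s := by
    rw [p.left.conj_eq hy p.memE, hyπ, p.hu, show BV v0 u0 = 1 by decide, pw_one]
  have hL : y * pw u f * y⁻¹ = pw u f * pw s f := by
    rcases zcases f with h | h <;> rw [h]
    · rw [pw_zero, pw_zero, mul_one, mul_one, mul_inv_cancel]
    · rw [pw_one, pw_one, hyu]
  have hR : y * pw u f * y⁻¹ = pw u f * pw s (qW w) := by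
    rw [← hsq, show y * (t * t) * y⁻¹ = y * t * y⁻¹ * (y * t * y⁻¹) by group, hconj]
    calc t * r * (t * r) = t * r * t⁻¹ * (t * t) * r := by group
      _ = r * pw u f * r := by rw [htr, hsq]
      _ = pw u f * (r * r) := by rw [(commute_pw hru f).eq, mul_assoc]
      _ = t * t * pw s (qW w) := by
        rw [p.left.square r hrE, hrπ, hsq]; simp [qV]
  rw [hL, mul_right_inj] at hR
  rw [hsq, pw_inj p.left.ne_one hR]

end Pair

end CfsgLib.CoOneType
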