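import Cfsg.Agent.Lib.CoOneType.Pair
import Cfsg.Agent.Lib.CoOneType.Invol

/-!
# Involutions acting as root transformations
-/

set_option autoImplicit false
set_option linter.style.haveILetI false
set_option synthInstance.maxSize 20000
set_option maxRecDepth 20000

namespace CfsgLib.CoOneType

open CfsgLib.Classical.Quad

universe u

variable {G : Type u} [Group G]

theorem sq_conj {c x : G} (h : x * x = 1) : c * x * c⁻¹ * (c * x * c⁻¹) = 1 := by
  rw [show c * x * c⁻¹ * (c * x * c⁻¹) = c * (x * x) * c⁻¹ by group, h]; group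

/-! ### Intrinsic forms of an action -/

/-- The action of `x` on `E s` sends every element to one commuting with it. -/
def AT (S : Sys G) (s x : G) : Prop := ∀ q ∈ S.E s, Commute (x * q * x⁻¹) q

/-- `x` acts on `E s` inside some root group. -/
def Small (S : Sys G) (s x : G) : Prop :=
  ∃ d ∈ S.E s, d ≠ 1 ∧ d ≠ s ∧ ∀ q ∈ S.E s, Commute q d →
    (x * q * x⁻¹ * q⁻¹ = 1 ∨ x * q * x⁻¹ * q⁻¹ = s) ∨
      x * q * x⁻¹ * q⁻¹ = d ∨ x * q * x⁻¹ * q⁻¹ = d * s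

/-- `x` acts on `E s` as a root involution. -/
def RootAt (S : Sys G) (s x : G) : Prop := S.K s ∧ Commute x s ∧ x ∉ S.E s ∧ AT S s x ∧ Small S s x

/-- Members of the class and root involutions. -/
def Good (S : Sys G) (x : G) : Prop := S.K x ∨ ∃ s, RootAt S s x

namespace Model

variable {S : Sys G} {s : G} {π : G → V8} (M : Model s (S.E s) π)
include M

theorem at_iff {x : G} {g : Orth Q8} (hx : Acts s (S.E s) π x g) : AT S s x ↔ AType g := by
  constructor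
  · intro h v
    obtain ⟨q, hq, rfl⟩ := M.surj v
    rw [← hx.2 q hq]
    exact (M.commute_iff (M.normal x hx.1 q hq) hq).1 (h q hq)
  · intro h q hq
    refine (M.commute_iff (M.normal x hx.1 q hq) hq).2 ?_
    rw [hx.2 q hq]; exact h _

theorem small_iff {x : G} {g : Orth Q8} (hx : Acts s (S.E s) π x g) :
    Small S s x ↔ ∃ e, e ≠ 0 ∧ InE g e := by
  have hcm : ∀ q ∈ S.E s, x * q * x⁻¹ * q⁻¹ ∈ S.E s ∧ π (x * q * x⁻¹ * q⁻¹) = g.1 (π q) + π q := fun q hq =>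
    ⟨(S.E s).mul_mem (M.normal x hx.1 q hq) ((S.E s).inv_mem hq), by
      rw [M.map_mul _ (M.normal x hx.1 q hq) _ ((S.E s).inv_mem hq), M.map_inv hq, hx.2 q hq]⟩
  constructor
  · rintro ⟨d, hd, hd1, hds, h⟩
    refine ⟨π d, fun e => ((M.ker d hd).1 e).elim hd1 hds, fun v hv => ?_⟩
    obtain ⟨q, hq, rfl⟩ := M.surj v
    rw [← (hcm q hq).2]
    rcases h q hq ((M.commute_iff hq hd).2 hv) with (e | e) | e | e <;> rw [e]
    · exact Or.inl M.map_one
    · exact Or.inl M.map_s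
    · exact Or.inr rfl
    · right; rw [M.map_mul d hd s M.mem, M.map_s, add_zero]
  · rintro ⟨e, he, h⟩
    obtain ⟨d, hd, rfl⟩ := M.surj e
    refine ⟨d, hd, fun e => he (by rw [e, M.map_one]), fun e => he (by rw [e, M.map_s]), fun q hq hc => ?_⟩
    obtain ⟨h1, h2⟩ := hcm q hq
    rcases h (π q) ((M.commute_iff hq hd).1 hc) with e | e <;> rw [← h2] at e
    · exact Or.inl ((M.ker _ h1).1 e)
    · exact Or.inr (M.eq_of_map h1 hd e)

theorem root_of_acts (hK : S.K s) {x : G} {g : Orth Q8} (hx : Acts s (S.E s) π x g) (hg : g ≠ 1)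
    (hA : AType g) (hE : ∃ e, e ≠ 0 ∧ InE g e) : RootAt S s x :=
  ⟨hK, hx.1, fun hm => hg (M.acts_unique hx (M.acts_mem hm)), (M.at_iff hx).2 hA, (M.small_iff hx).2 hE⟩

/-- An involution of the centralizer can be moved to a normal form. -/
theorem exists_form {x : G} (hxs : Commute x s) (hxx : x * x = 1) (hx : x ∉ S.E s) :
    ∃ c g, Commute c s ∧ Acts s (S.E s) π (c * x * c⁻¹) g ∧ Std g ∧ g ≠ 1 := by
  obtain ⟨τ, hτE, hτ⟩ := M.act x hxs
  have hτ2 : τ * τ = 1 := by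
    have h := M.acts_mul hτ hτ
    rw [hxx] at h
    exact M.acts_unique h (M.acts_mem (S.E s).one_mem)
  obtain ⟨k, hk, hs⟩ := exists_std hτE hτ2
  obtain ⟨c, hc⟩ := M.lift k hk
  refine ⟨c, _, hc.1, M.acts_mul (M.acts_mul hc hτ) (M.acts_inv hc), hs, fun h => hx ?_⟩
  rw [mul_inv_eq_one, mul_eq_left] at h
  exact M.faith x (h ▸ hτ)

end Model

theorem sg_aType {w : W6} (h : qW w = 0) : AType (sg w) := fun x => by
  have h1 := sg_move w x
  rw [h, zero_mul, add_zero] at h1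
  rw [v8_add_eq h1, BV_add_left, BV_self, add_zero]
  simp [BV, BW_comm w, mul_comm, CharTwo.add_self_eq_zero, h]
  rcases zcases x.2.1 with e | e <;> simp [e, CharTwo.add_self_eq_zero, BW_comm w]

theorem sg_inE (w : W6) : InE (sg w) u0 := fun x hx => by
  have hb : x.2.1 = 0 := by simpa [BV, u0] using hx
  rw [sg_move, hb]
  rcases zcases (BW x.2.2 w) with h | h <;> simp [h, u0]

theorem sg_ne {w : W6} (h : w ≠ 0) : sg w ≠ 1 := fun e => h (sg_inj (e.trans sg_zero.symm))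

/-! ### Conjugacy -/

namespace Sys

variable (S : Sys G)

theorem AT_conj {g s x : G} (hs : S.K s) (h : AT S s x) : AT S (g * s * g⁻¹) (g * x * g⁻¹) := by
  intro q hq
  obtain ⟨p, rfl⟩ : ∃ p, g * p * g⁻¹ = q := ⟨g⁻¹ * q * g, by group⟩
  rw [show g * x * g⁻¹ * (g * p * g⁻¹) * (g * x * g⁻¹)⁻¹ = g * (x * p * x⁻¹) * g⁻¹ by group]
  have h1 := h p ((S.E_conj g s hs p).1 hq)
  show g * (x * p * x⁻¹) * g⁻¹ * (g * p * g⁻¹) = g * p * g⁻¹ * (g * (x * p * x⁻¹) * g⁻¹)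
  rw [show g * (x * p * x⁻¹) * g⁻¹ * (g * p * g⁻¹) = g * (x * p * x⁻¹ * p) * g⁻¹ by group, h1.eq]
  group

theorem Small_conj {g s x : G} (hs : S.K s) (h : Small S s x) : Small S (g * s * g⁻¹) (g * x * g⁻¹) := by
  obtain ⟨d, hd, h1, h2, h3⟩ := h
  refine ⟨g * d * g⁻¹, S.mem_conj hs hd, fun e => h1 (conj_eq_one_iff.1 e),
    fun e => h2 (mul_left_cancel (mul_right_cancel e)), fun q hq hc => ?_⟩
  obtain ⟨p, rfl⟩ : ∃ p, g * p * g⁻¹ = q := ⟨g⁻¹ * q * g, by group⟩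
  have hc' : Commute p d := by
    show p * d = d * p
    calc p * d = g⁻¹ * (g * p * g⁻¹ * (g * d * g⁻¹)) * g := by group
      _ = g⁻¹ * (g * d * g⁻¹ * (g * p * g⁻¹)) * g := by rw [hc.eq]
      _ = d * p := by group
  have h4 := h3 p ((S.E_conj g s hs p).1 hq) hc'
  rw [show g * x * g⁻¹ * (g * p * g⁻¹) * (g * x * g⁻¹)⁻¹ * (g * p * g⁻¹)⁻¹ =
    g * (x * p * x⁻¹ * p⁻¹) * g⁻¹ by group]
  rcases h4 with (e | e) | e | e <;> rw [e]
  · exact Or.inl (Or.inl (by group))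
  · exact Or.inl (Or.inr rfl)
  · exact Or.inr (Or.inl rfl)
  · exact Or.inr (Or.inr (by group))

theorem commute_conj {g s x : G} (h : Commute x s) : Commute (g * x * g⁻¹) (g * s * g⁻¹) := by
  show g * x * g⁻¹ * (g * s * g⁻¹) = g * s * g⁻¹ * (g * x * g⁻¹)
  rw [show g * x * g⁻¹ * (g * s * g⁻¹) = g * (x * s) * g⁻¹ by group, h.eq]; group

theorem RootAt_conj {g s x : G} (h : RootAt S s x) : RootAt S (g * s * g⁻¹) (g * x * g⁻¹) :=
  ⟨S.K_conj g s h.1, commute_conj h.2.1, fun hm => h.2.2.1 ((S.E_conj g s h.1 x).1 hm),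
    S.AT_conj h.1 h.2.2.2.1, S.Small_conj h.1 h.2.2.2.2⟩

theorem Good_conj {x : G} (h : Good S x) (g : G) : Good S (g * x * g⁻¹) := by
  rcases h with h | ⟨s, h⟩
  · exact Or.inl (S.K_conj g x h)
  · exact Or.inr ⟨_, S.RootAt_conj (g := g) h⟩

theorem Good_of_conj {x g : G} (h : Good S (g * x * g⁻¹)) : Good S x := by
  have := S.Good_conj h g⁻¹
  rwa [show g⁻¹ * (g * x * g⁻¹) * g⁻¹⁻¹ = x by group] at this

end Sys

/-! ### Products in a pair -/

namespace Pair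

variable {S : Sys G} {s u : G} {π π' : G → V8} (p : Pair S s u π π')
include p

theorem acts_tq {t q : G} {w : W6} (ht : Br S s u π t w) (hq : q ∈ S.E s) :
    Acts s (S.E s) π (t * q) (sg w) := by
  simpa using p.left.acts_mul ht.2 (p.left.acts_mem hq)

theorem sq_tq {t q : G} {w : W6} (ht : Br S s u π t w) (hq : q ∈ S.E s) (hqu : Commute q u)
    (hB : BW (π q).2.2 w = qW w) : t * q * (t * q) = pw s (qW w + qV (π q)) := by
  have h := p.comm_rule ht hq hqu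
  rw [hB] at h
  have hc : Commute (pw u (qW w)) (pw s (qW w)) :=
    commute_pw (commute_pw p.comm _).symm _
  calc t * q * (t * q) = t * q * t⁻¹ * (t * t) * q := by group
    _ = q * (pw u (qW w) * pw s (qW w)) * pw u (qW w) * q := by rw [h, p.sq_rule ht]
    _ = q * pw s (qW w) * q := by
      rw [hc.eq, ← mul_assoc q (pw s (qW w)), mul_assoc (q * pw s (qW w)) (pw u (qW w)), ← pw_add p.right.sq_one,
        CharTwo.add_self_eq_zero, pw_zero, mul_one]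
    _ = pw s (qW w) * (q * q) := by rw [(commute_pw (p.left.le_cent q hq) _).eq, mul_assoc]
    _ = _ := by rw [p.left.square q hq, ← pw_add p.left.sq_one]

/-- When is a product an involution. -/
theorem criterion {t q : G} {w : W6} (ht : Br S s u π t w) (hw : w ≠ 0) (hq : q ∈ S.E s)
    (h : t * q * (t * q) = 1) :
    (π q).2.1 = 0 ∧ BW (π q).2.2 w = qW w ∧ qV (π q) = qW w := by
  have h1 := p.left.normal t ht.2.1 q hq
  have h2 : t * q * t⁻¹ * pw u (qW w) * q = 1 := by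
    rw [← p.sq_rule ht, ← h]; group
  have h3 := congrArg π h2
  rw [p.left.map_mul _ ((S.E s).mul_mem h1 (p.pwu_mem _).1) _ hq, p.left.map_mul _ h1 _ (p.pwu_mem _).1,
    p.map_pwu, ht.2.2 q hq, p.left.map_one, add_right_comm, sg_move] at h3
  obtain ⟨hb, hB⟩ : (π q).2.1 = 0 ∧ BW (π q).2.2 w = qW w := by
    generalize π q = v at h3
    obtain ⟨a, b, x⟩ := v
    simp only [Prod.mk_add_mk, Prod.ext_iff, Prod.fst_zero, Prod.snd_zero, add_zero] at h3
    have hb : b = 0 := (zcases b).resolve_right fun e => hw (by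
      subst e
      ext <;> simp_all)
    subst hb
    refine ⟨rfl, zadd.1 ?_⟩
    simpa using h3.1
  refine ⟨hb, hB, ?_⟩
  have hqu : Commute q u := p.comm_of_perp hq (by
    rw [show π q = ((π q).1, (π q).2.1, (π q).2.2) from rfl, hb]
    simp [BV, u0])
  have h4 := p.sq_tq ht hq hqu hB
  rw [h, eq_comm, pw_eq_one p.left.ne_one, zadd] at h4
  exact h4.symm

/-- Shifting the second factor. -/
theorem shift {t q y : G} {w : W6} (ht : Br S s u π t w) (hq : q ∈ S.E s) (hy : y ∈ S.E s) :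
    ∃ r ∈ S.E s, y * (t * q) * y⁻¹ = t * r ∧
      π r = (BW (π y).2.2 w + qW w * (π y).2.1, 0, (π y).2.1 • w) + π q := by
  have h1 := p.left.normal t⁻¹ ht.2.1.inv_left y hy
  have h2 : t⁻¹ * y * t⁻¹⁻¹ * y⁻¹ ∈ S.E s := (S.E s).mul_mem h1 ((S.E s).inv_mem hy)
  have h3 : y * q * y⁻¹ ∈ S.E s := (S.E s).mul_mem ((S.E s).mul_mem hy hq) ((S.E s).inv_mem hy)
  refine ⟨_, (S.E s).mul_mem h2 h3, by group, ?_⟩
  rw [p.left.map_mul _ h2 _ h3, p.left.map_mul _ h1 _ ((S.E s).inv_mem hy), p.left.map_inv hy,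
    (p.br_inv ht).2.2 y hy, p.left.map_conj hy hq, sg_move]

/-- Replacing the first factor. -/
theorem refactor {t t' q : G} {w : W6} (ht : Br S s u π t w) (ht' : Br S s u π t' w) (hq : q ∈ S.E s) :
    ∃ r ∈ S.E s, t * q = t' * r ∧ (π r).2.2 = (π q).2.2 := by
  have hd := p.br_mul (p.br_inv ht') ht
  rw [w6_add_self] at hd
  have hd' := p.br_zero hd
  obtain ⟨b, a, hba⟩ := p.inter hd' hd.1
  refine ⟨t'⁻¹ * t * q, (S.E s).mul_mem hd' hq, by group, ?_⟩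
  rw [p.left.map_mul _ hd' _ hq, hba, p.map_dd]
  simp

theorem move {t q : G} {w a b : W6} (ht : Br S s u π t w) (hq : q ∈ S.E s) (ha : qW a = 1) (hb : qW b = 1)
    {t' : G} (ht' : Br S s u π t' (rw6 a (rw6 b w))) :
    ∃ c r, Commute c s ∧ Commute c u ∧ r ∈ S.E s ∧ c * (t * q) * c⁻¹ = t' * r ∧
      (π r).2.2 = rw6 a (rw6 b (π q).2.2) := by
  obtain ⟨c, hc, hcu⟩ := p.left.lift_stab p.memE p.hu (rr_mem' ha hb) (rr_u0 ha hb)
  obtain ⟨r, hr, e, hW⟩ := p.refactor (p.br_conj ht ha hb hc hcu) ht' (p.left.normal c hc.1 q hq)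
  refine ⟨c, r, hc.1, hcu, hr, ?_, ?_⟩
  · rw [← e]; group
  · rw [hW, hc.2 q hq, show π q = ((π q).1, (π q).2.1, (π q).2.2) from rfl, rr_triple ha hb]

/-- `x` is the standard product for `w` and `v`. -/
def Rep (w v : W6) (x : G) : Prop :=
  ∃ T Q, Br S s u π T w ∧ Q ∈ S.E s ∧ π Q = emb v ∧ x = T * Q

omit p in
theorem rep_def {w v : W6} {x : G} : Rep (S := S) (s := s) (u := u) (π := π) w v x ↔
    ∃ T Q, Br S s u π T w ∧ Q ∈ S.E s ∧ π Q = emb v ∧ x = T * Q := Iff.rfl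

theorem exists_rep (w v : W6) : ∃ x, Rep (S := S) (s := s) (u := u) (π := π) w v x := by
  obtain ⟨T, hT⟩ := p.exists_br w
  obtain ⟨Q, hQ, e⟩ := p.left.surj (emb v)
  exact ⟨_, T, Q, hT, hQ, e, rfl⟩

theorem rep_facts {w v : W6} {x : G} (h : Rep (S := S) (s := s) (u := u) (π := π) w v x) (hw : w ≠ 0)
    (hB : BW v w = qW w) (hv : qW v = qW w) :
    x * x = 1 ∧ x ∉ S.E s ∧ Commute x u ∧ Acts s (S.E s) π x (sg w) := by
  obtain ⟨T, Q, hT, hQ, hQπ, rfl⟩ := h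
  have hQu := p.comm_of_perp hQ (by rw [hQπ]; exact BV_emb_u0 v)
  have hA := p.acts_tq hT hQ
  refine ⟨?_, fun hm => sg_ne hw (p.left.acts_unique hA (p.left.acts_mem hm)),
    (p.br_comm hT).2.mul_left hQu, hA⟩
  rw [p.sq_tq hT hQ hQu (by rw [hQπ]; exact hB), hQπ, qV_emb, hv, CharTwo.add_self_eq_zero, pw_zero]

theorem conj_rep {T Q q : G} {w v : W6} (hT : Br S s u π T w) (hw : w ≠ 0) (hQ : Q ∈ S.E s)
    (hQπ : π Q = emb v) (hq : q ∈ S.E s) (hb : (π q).2.1 = 0) (hW : (π q).2.2 = v) {z : W6}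
    (hz1 : BW z w = 0) (hz2 : BW z v = 1) :
    ∃ c, Commute c s ∧ Commute c u ∧ c * (T * q) * c⁻¹ = T * Q := by
  obtain ⟨zz, hzz⟩ : ∃ zz, BW zz w = (π q).1 := by
    rcases zcases (π q).1 with h | h <;> rw [h]
    · exact ⟨0, BW_zero_left _⟩
    · by_contra! h1
      exact hw (BW_nd fun y => by rw [BW_comm]; exact (zcases _).resolve_right (h1 y))
  obtain ⟨y, hy, hyπ⟩ := p.left.surj (emb zz)
  obtain ⟨r, hr, her, hrπ⟩ := p.shift hT hq hy
  have hrπ' : π r = π Q := by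
    rw [hrπ, hyπ, hQπ, show π q = ((π q).1, (π q).2.1, (π q).2.2) from rfl, hb, hW, ← hzz]
    simp [emb, CharTwo.add_self_eq_zero]
  have hyu : Commute y u := p.comm_of_perp hy (by rw [hyπ]; exact BV_emb_u0 _)
  rcases p.left.eq_of_map hr hQ hrπ' with e | e
  · exact ⟨y, p.left.le_cent y hy, hyu, by rw [her, e]⟩
  · obtain ⟨zq, hzq, hzu, hzπ⟩ := p.exists_q z
    have hzT : Commute T zq := by
      have := p.comm_rule hT hzq hzu
      rw [hzπ, show (emb z).2.2 = z from rfl, hz1, pw_zero, pw_zero, mul_one, mul_one] at this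
      exact conj_eq_iff_commute.1 this
    have hzQ : zq * Q * zq⁻¹ = Q * s := by
      rw [p.left.conj_eq hzq hQ, hzπ, hQπ, BV_emb, hz2, pw_one]
    refine ⟨zq * y, (p.left.le_cent zq hzq).mul_left (p.left.le_cent y hy), hzu.mul_left hyu, ?_⟩
    rw [show zq * y * (T * q) * (zq * y)⁻¹ = zq * (y * (T * q) * y⁻¹) * zq⁻¹ by group, her, e,
      show zq * (T * (Q * s)) * zq⁻¹ = zq * T * zq⁻¹ * (zq * Q * zq⁻¹) * (zq * s * zq⁻¹) by group,
      conj_eq_iff_commute.2 hzT.symm, hzQ, conj_eq_iff_commute.2 (p.left.le_cent zq hzq), mul_assoc T,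
      mul_assoc Q, p.left.sq_one, mul_one]

theorem factor {x : G} {w : W6} (hA : Acts s (S.E s) π x (sg w)) :
    ∃ t q, Br S s u π t w ∧ q ∈ S.E s ∧ x = t * q := by
  obtain ⟨t, ht⟩ := p.exists_br w
  refine ⟨t, t⁻¹ * x, ht, p.left.faith _ ?_, by group⟩
  have := p.left.acts_mul (p.br_inv ht).2 hA
  rwa [sg_sq] at this

/-- Involutions in the class of the standard root transformation. -/
theorem classify_e1 {x0 : G} (h0 : Rep (S := S) (s := s) (u := u) (π := π) e1 e2 x0) {x : G}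
    (hA : Acts s (S.E s) π x (sg e1)) (hxx : x * x = 1) :
    (∃ c, Commute c s ∧ (Commute c u ∨ c * u * c⁻¹ = u * s) ∧ c * x * c⁻¹ ∈ S.E u) ∨
      ∃ c, Commute c s ∧ c * x * c⁻¹ = x0 := by
  obtain ⟨t, q, ht, hq, rfl⟩ := p.factor hA
  obtain ⟨hb, hB, hQ⟩ := p.criterion ht (by decide) hq hxx
  have hqW : qW (π q).2.2 = 0 := by
    rw [show (0 : ZMod 2) = qW e1 from rfl, ← hQ]; simp [qV, hb]
  by_cases h1 : (π q).2.2 = 0
  · exact Or.inl ⟨1, Commute.one_left s, Or.inl (Commute.one_left u), by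
      simpa using (S.E u).mul_mem ht.1 (p.mem_of_map hq hb h1)⟩
  by_cases h2 : (π q).2.2 = e1
  · obtain ⟨y, hy, hyπ⟩ := p.left.surj v0
    obtain ⟨r, hr, her, hrπ⟩ := p.shift ht hq hy
    refine Or.inl ⟨y, p.left.le_cent y hy, Or.inr ?_, ?_⟩
    · rw [p.left.conj_eq hy p.memE, hyπ, p.hu, show BV v0 u0 = 1 by decide, pw_one]
    rw [her]
    rw [hyπ] at hrπ
    refine (S.E u).mul_mem ht.1 (p.mem_of_map hr ?_ ?_) <;> rw [hrπ]
    · simp [v0, hb]
    · simp [v0, h2, w6_add_self]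
  right
  obtain ⟨T, Q, hT, hQm, hQπ, rfl⟩ := h0
  obtain ⟨a, ha, b, hbq, hfix, hab⟩ := (by decide : ∀ v : W6, qW v = 0 → BW v e1 = 0 → v ≠ 0 → v ≠ e1 →
    ∃ a, qW a = 1 ∧ ∃ b, qW b = 1 ∧ rw6 a (rw6 b e1) = e1 ∧ rw6 a (rw6 b v) = e2) _ hqW hB h1 h2
  obtain ⟨c, r, hc, -, hr, he, hW⟩ := p.move (t' := T) ht hq ha hbq (hfix.symm ▸ hT)
  obtain ⟨hb', -, -⟩ := p.criterion hT (show e1 ≠ 0 by decide) hr (he ▸ sq_conj hxx)
  obtain ⟨c', hc', -, he'⟩ := p.conj_rep hT (by decide) hQm hQπ hr hb' (hW.trans hab) (z := f2) (by decide)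
    (by decide)
  refine ⟨c' * c, hc'.mul_left hc, ?_⟩
  rw [show c' * c * (t * q) * (c' * c)⁻¹ = c' * (c * (t * q) * c⁻¹) * c'⁻¹ by group, he, he']

/-- Involutions acting as the standard product of two reflections. -/
theorem classify_w0 {x0 : G} (h0 : Rep (S := S) (s := s) (u := u) (π := π) w0 vd x0) {x : G}
    (hA : Acts s (S.E s) π x (sg w0)) (hxx : x * x = 1) :
    ∃ c, Commute c s ∧ c * x * c⁻¹ = x0 := by
  obtain ⟨t, q, ht, hq, rfl⟩ := p.factor hA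
  obtain ⟨T, Q, hT, hQm, hQπ, rfl⟩ := h0
  obtain ⟨hb, hB, hQ⟩ := p.criterion ht (by decide) hq hxx
  have hqW : qW (π q).2.2 = qW w0 := by
    rw [← hQ]; simp [qV, hb]
  obtain ⟨a, ha, b, hbq, hfix, hab⟩ := (by decide : ∀ v : W6, qW v = qW w0 → BW v w0 = qW w0 →
    ∃ a, qW a = 1 ∧ ∃ b, qW b = 1 ∧ rw6 a (rw6 b w0) = w0 ∧
      (rw6 a (rw6 b v) = vd ∨ rw6 a (rw6 b v) = vd + w0)) _ hqW hB
  obtain ⟨c, r, hc, -, hr, he, hW⟩ := p.move (t' := T) ht hq ha hbq (hfix.symm ▸ hT)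
  obtain ⟨hb', -, -⟩ := p.criterion hT (show w0 ≠ 0 by decide) hr (he ▸ sq_conj hxx)
  rw [← hW] at hab
  obtain ⟨c₂, r₂, hc₂, hr₂, he₂, hb₂, hW₂⟩ : ∃ c₂ r₂, Commute c₂ s ∧ r₂ ∈ S.E s ∧
      c₂ * (T * r) * c₂⁻¹ = T * r₂ ∧ (π r₂).2.1 = 0 ∧ (π r₂).2.2 = vd := by
    rcases hab with h | h
    · exact ⟨1, r, Commute.one_left s, hr, by group, hb', h⟩
    · obtain ⟨y, hy, hyπ⟩ := p.left.surj v0
      obtain ⟨r', hr', her, hrπ⟩ := p.shift hT hr hy
      rw [hyπ] at hrπ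
      refine ⟨y, r', p.left.le_cent y hy, hr', her, ?_, ?_⟩ <;> rw [hrπ]
      · simp [v0, hb']
      · simp [v0, h]
        decide
  obtain ⟨c', hc', -, he'⟩ := p.conj_rep hT (by decide) hQm hQπ hr₂ hb₂ hW₂ (z := w0) (by decide)
    (by decide)
  refine ⟨c' * (c₂ * c), hc'.mul_left (hc₂.mul_left hc), ?_⟩
  rw [← he', ← he₂, ← he]
  group

end Pair

end CfsgLib.CoOneType
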