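import Cfsg.Agent.Lib.Orth.Reflection
import Cfsg.Agent.Lib.Classical.Quad.Std
import Cfsg.Agent.Lib.Classical.SmallIso.Core
import Mathlib.Tactic

/-!
# The hyperbolic quadratic space of dimension eight over the field with two elements
-/

set_option autoImplicit false
set_option linter.style.haveILetI false
set_option synthInstance.maxSize 20000
set_option synthInstance.maxHeartbeats 400000
set_option maxRecDepth 20000

namespace CfsgLib.CoOneType

open QuadraticMap (polar)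
open CfsgLib.Classical.Quad CfsgLib.Orth

/-- The six-dimensional hyperbolic space. -/
abbrev W6 : Type := ZMod 2 × ZMod 2 × ZMod 2 × ZMod 2 × ZMod 2 × ZMod 2

/-- The eight-dimensional space: a hyperbolic plane and `W6`. -/
abbrev V8 : Type := ZMod 2 × ZMod 2 × W6

/-- The form on `W6`. -/
def qW (x : W6) : ZMod 2 :=
  x.1 * x.2.1 + x.2.2.1 * x.2.2.2.1 + x.2.2.2.2.1 * x.2.2.2.2.2

/-- The polar form on `W6`. -/
def BW (x y : W6) : ZMod 2 :=
  x.1 * y.2.1 + y.1 * x.2.1 + (x.2.2.1 * y.2.2.2.1 + y.2.2.1 * x.2.2.2.1) +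
    (x.2.2.2.2.1 * y.2.2.2.2.2 + y.2.2.2.2.1 * x.2.2.2.2.2)

/-- The form on `V8`. -/
def qV (x : V8) : ZMod 2 := x.1 * x.2.1 + qW x.2.2

/-- The polar form on `V8`. -/
def BV (x y : V8) : ZMod 2 := x.1 * y.2.1 + y.1 * x.2.1 + BW x.2.2 y.2.2

/-- The distinguished singular vector. -/
def u0 : V8 := (1, 0, 0)

/-- Its partner. -/
def v0 : V8 := (0, 1, 0)

/-- The inclusion of `W6`. -/
def emb (x : W6) : V8 := (0, 0, x)

/-- The standard basis. -/
def e1 : W6 := (1, 0, 0, 0, 0, 0)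
/-- The standard basis. -/
def f1 : W6 := (0, 1, 0, 0, 0, 0)
/-- The standard basis. -/
def e2 : W6 := (0, 0, 1, 0, 0, 0)
/-- The standard basis. -/
def f2 : W6 := (0, 0, 0, 1, 0, 0)
/-- The standard basis. -/
def e3 : W6 := (0, 0, 0, 0, 1, 0)
/-- The standard basis. -/
def f3 : W6 := (0, 0, 0, 0, 0, 1)

/-- The distinguished nonsingular vector. -/
def w0 : W6 := (1, 1, 0, 0, 0, 0)

/-- Its companion. -/
def vd : W6 := (1, 0, 1, 1, 0, 0)

theorem zcases (z : ZMod 2) : z = 0 ∨ z = 1 := by revert z; decide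

theorem zne {z : ZMod 2} (h : z ≠ 0) : z = 1 := (zcases z).resolve_left h

theorem zadd {a b : ZMod 2} : a + b = 0 ↔ a = b := by revert a b; decide

theorem zsq (a : ZMod 2) : a * a = a := by revert a; decide

theorem v8_add_self (x : V8) : x + x = 0 := by simp [Prod.ext_iff, CharTwo.add_self_eq_zero]

theorem w6_add_self (x : W6) : x + x = 0 := by simp [Prod.ext_iff, CharTwo.add_self_eq_zero]

theorem v8_add_eq {x y z : V8} (h : x + y = z) : x = z + y := by
  rw [← h, add_assoc, v8_add_self, add_zero]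

theorem w6_add_eq {x y z : W6} (h : x + y = z) : x = z + y := by
  rw [← h, add_assoc, w6_add_self, add_zero]

theorem zadd_v8 {x y : V8} : x + y = 0 ↔ x = y :=
  ⟨fun h => by rw [v8_add_eq h, zero_add], fun h => by rw [h, v8_add_self]⟩

theorem zadd_w6 {x y : W6} : x + y = 0 ↔ x = y :=
  ⟨fun h => by rw [w6_add_eq h, zero_add], fun h => by rw [h, w6_add_self]⟩

theorem BW_comm (x y : W6) : BW x y = BW y x := by simp only [BW]; ring

theorem BW_add_left (x y z : W6) : BW (x + y) z = BW x z + BW y z := by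
  simp only [BW, Prod.fst_add, Prod.snd_add]; ring

theorem BW_add_right (x y z : W6) : BW x (y + z) = BW x y + BW x z := by
  simp only [BW, Prod.fst_add, Prod.snd_add]; ring

@[simp] theorem BW_zero_right (x : W6) : BW x 0 = 0 := by simp [BW]

@[simp] theorem BW_zero_left (x : W6) : BW 0 x = 0 := by simp [BW]

theorem BW_self (x : W6) : BW x x = 0 := by
  simp [BW, CharTwo.add_self_eq_zero]

theorem qW_add (x y : W6) : qW (x + y) = qW x + qW y + BW x y := by
  simp only [qW, BW, Prod.fst_add, Prod.snd_add]; ring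

theorem BW_nd {x : W6} (h : ∀ y, BW x y = 0) : x = 0 := by
  have h1 := h e1; have h2 := h f1; have h3 := h e2; have h4 := h f2; have h5 := h e3; have h6 := h f3
  simp [BW, e1, f1, e2, f2, e3, f3] at h1 h2 h3 h4 h5 h6
  simp [Prod.ext_iff, h1, h2, h3, h4, h5, h6]

theorem BV_comm (x y : V8) : BV x y = BV y x := by simp only [BV, BW]; ring

theorem BV_add_left (x y z : V8) : BV (x + y) z = BV x z + BV y z := by
  simp only [BV, BW, Prod.fst_add, Prod.snd_add]; ring

theorem BV_add_right (x y z : V8) : BV x (y + z) = BV x y + BV x z := by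
  simp only [BV, BW, Prod.fst_add, Prod.snd_add]; ring

theorem BV_self (x : V8) : BV x x = 0 := by
  simp [BV, BW_self, CharTwo.add_self_eq_zero]

@[simp] theorem BV_zero_left (x : V8) : BV 0 x = 0 := by simp [BV]

@[simp] theorem BV_zero_right (x : V8) : BV x 0 = 0 := by simp [BV]

theorem qV_add (x y : V8) : qV (x + y) = qV x + qV y + BV x y := by
  simp only [qV, qW, BV, BW, Prod.fst_add, Prod.snd_add]; ring

theorem BV_nd {x : V8} (h : ∀ y, BV x y = 0) : x = 0 := by
  have h1 := h u0; have h2 := h v0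
  simp [BV, u0, v0] at h1 h2
  have h3 : x.2.2 = 0 := BW_nd fun w => by simpa [BV, emb] using h (emb w)
  simp [Prod.ext_iff, h1, h2, h3]

/-- The form as a quadratic map. -/
noncomputable def Q8 : QuadraticForm (ZMod 2) V8 :=
  LinearMap.BilinMap.toQuadraticMap
    (LinearMap.mk₂ (ZMod 2) (fun x y : V8 => x.1 * y.2.1 + (x.2.2.1 * y.2.2.2.1 +
      x.2.2.2.2.1 * y.2.2.2.2.2.1 + x.2.2.2.2.2.2.1 * y.2.2.2.2.2.2.2))
      (fun a b c => by simp; ring) (fun c a b => by simp; ring)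
      (fun a b c => by simp; ring) (fun c a b => by simp; ring))

theorem Q8_apply (x : V8) : Q8 x = qV x := rfl

theorem polar_Q8 (x y : V8) : polar Q8 x y = BV x y := by
  simp only [polar, Q8_apply, qV_add]; ring

theorem nd8 : NDPolar Q8 := fun x hx => BV_nd fun y => by rw [← polar_Q8]; exact hx y

theorem qV_g (g : Orth Q8) (x : V8) : qV (g.1 x) = qV x := orth_Q g x

theorem BV_g (g : Orth Q8) (x y : V8) : BV (g.1 x) (g.1 y) = BV x y := by
  have := orth_polar g x y
  rwa [polar_Q8, polar_Q8] at this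

theorem g_zero (g : Orth Q8) : g.1 0 = 0 := map_zero g.1

theorem g_add (g : Orth Q8) (x y : V8) : g.1 (x + y) = g.1 x + g.1 y := map_add g.1 x y

/-- Two isometries equal on a basis are equal. -/
theorem ext8 {g h : Orth Q8} (h1 : g.1 u0 = h.1 u0) (h2 : g.1 v0 = h.1 v0)
    (h3 : ∀ x, g.1 (emb x) = h.1 (emb x)) : g = h := by
  refine orth_ext fun x => ?_
  rw [show x = x.1 • u0 + x.2.1 • v0 + emb x.2.2 by simp [u0, v0, emb, Prod.ext_iff]]
  simp only [map_add, map_smul, h1, h2, h3]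

/-- The commutator subgroup of the isometry group. -/
noncomputable def Ev : Subgroup (Orth Q8) := commutator (Orth Q8)

theorem gen8 : Subgroup.closure (reflSet Q8) = ⊤ := by
  refine closure_refl nd8 (Or.inr ?_)
  simp [W6, V8]

theorem exists_one8 : ∃ v, Q8 v ≠ 0 := ⟨emb w0, by rw [Q8_apply]; decide⟩

theorem index_Ev : Ev.index = 2 := index_commutator_of_closure_refl nd8 gen8 exists_one8

theorem refl_not_mem {a : V8} (ha : qV a = 1) : refl Q8 a ∉ Ev := by
  intro h
  have h1 : refl Q8 a ∈ (dickson nd8 gen8).ker := Abelianization.commutator_subset_ker _ h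
  rw [MonoidHom.mem_ker, dickson_refl nd8 gen8 (by rw [Q8_apply, ha]; decide)] at h1
  exact absurd h1 (by decide)

theorem rr_mem {a b : V8} (ha : qV a = 1) (hb : qV b = 1) : refl Q8 a * refl Q8 b ∈ Ev := by
  rw [Subgroup.mul_mem_iff_of_index_two index_Ev]
  exact iff_of_false (refl_not_mem ha) (refl_not_mem hb)

/-- Reflection, computably. -/
def rf (a x : V8) : V8 := x + BV x a • a

/-- Reflection of `W6`, computably. -/
def rw6 (a x : W6) : W6 := x + BW x a • a

theorem refl8 {a : V8} (ha : qV a = 1) (x : V8) : (refl Q8 a).1 x = rf a x := by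
  rw [refl_apply, polar_Q8, Q8_apply, ha, div_one, CharTwo.neg_eq]; rfl

theorem rf_emb (a x : W6) : rf (emb a) (emb x) = emb (rw6 a x) := by
  simp [rf, rw6, emb, BV, Prod.ext_iff]

theorem rf_emb_u0 (a : W6) : rf (emb a) u0 = u0 := by simp [rf, emb, u0, BV]

theorem rf_emb_v0 (a : W6) : rf (emb a) v0 = v0 := by simp [rf, emb, v0, BV]

theorem qV_emb (a : W6) : qV (emb a) = qW a := by simp [qV, emb]

theorem BV_emb (a b : W6) : BV (emb a) (emb b) = BW a b := by simp [BV, emb]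

theorem BV_emb_u0 (a : W6) : BV (emb a) u0 = 0 := by simp [BV, emb, u0]

theorem emb_add (a b : W6) : emb (a + b) = emb a + emb b := by simp [emb]

/-- `g` acts on `W6` by `H` and fixes its complement. -/
structure Ext (g : Orth Q8) (H : W6 → W6) : Prop where
  hu : g.1 u0 = u0
  hv : g.1 v0 = v0
  hw : ∀ x, g.1 (emb x) = emb (H x)

theorem Ext.apply {g : Orth Q8} {H : W6 → W6} (h : Ext g H) (a b : ZMod 2) (x : W6) :
    g.1 (a, b, x) = (a, b, H x) := by
  rw [show ((a, b, x) : V8) = a • u0 + b • v0 + emb x by simp [u0, v0, emb, Prod.ext_iff]]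
  simp only [map_add, map_smul, h.hu, h.hv, h.hw]
  simp [u0, v0, emb, Prod.ext_iff]

theorem Ext.one : Ext 1 id := ⟨one_apply _, one_apply _, fun _ => one_apply _⟩

theorem Ext.mul {g h : Orth Q8} {H K : W6 → W6} (hg : Ext g H) (hh : Ext h K) :
    Ext (g * h) (H ∘ K) :=
  ⟨by rw [mul_apply, hh.hu, hg.hu], by rw [mul_apply, hh.hv, hg.hv],
    fun x => by rw [mul_apply, hh.hw, hg.hw]; rfl⟩

theorem Ext.inv {g : Orth Q8} {H : W6 → W6} (hg : Ext g H) :
    Ext g⁻¹ (fun x => ((g⁻¹).1 (emb x)).2.2) := by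
  refine ⟨?_, ?_, fun x => ?_⟩
  · conv_lhs => rw [← hg.hu]
    rw [inv_apply_self]
  · conv_lhs => rw [← hg.hv]
    rw [inv_apply_self]
  · have h := self_apply_inv g (emb x)
    generalize (g⁻¹).1 (emb x) = y at h ⊢
    obtain ⟨a, b, y⟩ := y
    rw [hg.apply] at h
    simp only [emb, Prod.mk.injEq] at h ⊢
    exact ⟨h.1, h.2.1, trivial⟩

theorem Ext.BW_eq {g : Orth Q8} {H : W6 → W6} (hg : Ext g H) (x y : W6) :
    BW (H x) (H y) = BW x y := by
  rw [← BV_emb, ← hg.hw, ← hg.hw, BV_g, BV_emb]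

theorem Ext.qW_eq {g : Orth Q8} {H : W6 → W6} (hg : Ext g H) (x : W6) : qW (H x) = qW x := by
  rw [← qV_emb, ← hg.hw, qV_g, qV_emb]

theorem Ext.map_add {g : Orth Q8} {H : W6 → W6} (hg : Ext g H) (x y : W6) :
    H (x + y) = H x + H y := by
  have := g_add g (emb x) (emb y)
  rw [← emb_add, hg.hw, hg.hw, hg.hw, ← emb_add] at this
  exact congrArg (fun z : V8 => z.2.2) this

theorem Ext.ext {g h : Orth Q8} {H : W6 → W6} (hg : Ext g H) (hh : Ext h H) : g = h :=
  ext8 (hg.hu.trans hh.hu.symm) (hg.hv.trans hh.hv.symm) fun x => (hg.hw x).trans (hh.hw x).symm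

/-- The product of two reflections of `W6`, extended to `V8`. -/
noncomputable def rr (a b : W6) : Orth Q8 := refl Q8 (emb a) * refl Q8 (emb b)

theorem rr_apply {a b : W6} (ha : qW a = 1) (hb : qW b = 1) (x : V8) :
    (rr a b).1 x = rf (emb a) (rf (emb b) x) := by
  rw [rr, mul_apply, refl8 (by rw [qV_emb, ha]), refl8 (by rw [qV_emb, hb])]

theorem rr_ext {a b : W6} (ha : qW a = 1) (hb : qW b = 1) :
    Ext (rr a b) fun x => rw6 a (rw6 b x) := by
  refine ⟨?_, ?_, fun x => ?_⟩ <;> rw [rr_apply ha hb]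
  · rw [rf_emb_u0, rf_emb_u0]
  · rw [rf_emb_v0, rf_emb_v0]
  · rw [rf_emb, rf_emb]

theorem rr_mem' {a b : W6} (ha : qW a = 1) (hb : qW b = 1) : rr a b ∈ Ev :=
  rr_mem (by rw [qV_emb, ha]) (by rw [qV_emb, hb])

/-- The commutator subgroup is transitive on singular vectors. -/
theorem ev_transitive {s : V8} (hs : qV s = 0) (hs0 : s ≠ 0) : ∃ g ∈ Ev, g.1 u0 = s := by
  by_cases hb : BV s u0 = 0
  · by_cases hsu : s = u0
    · exact ⟨1, one_mem _, hsu.symm⟩
    obtain ⟨y, hy, hy1, hy2⟩ := (by decide : ∀ s : V8, qV s = 0 → s ≠ 0 → BV s u0 = 0 → s ≠ u0 →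
      ∃ y, qV y = 0 ∧ BV y u0 = 1 ∧ BV y s = 1) s hs hs0 hb hsu
    have ha : qV (y + u0) = 1 := by rw [qV_add, hy, hy1, show qV u0 = 0 from rfl]; decide
    have hc : qV (s + y) = 1 := by rw [qV_add, hy, hs, BV_comm, hy2]; decide
    refine ⟨_, rr_mem hc ha, ?_⟩
    rw [mul_apply, refl8 ha, refl8 hc]
    have e1 : rf (y + u0) u0 = y := by
      rw [rf, BV_add_right, BV_comm u0 y, hy1, BV_self, add_zero, one_smul, add_comm y u0, ← add_assoc,
        v8_add_self, zero_add]
    rw [e1, rf, BV_add_right, hy2, BV_self, add_zero, one_smul, add_comm s y, ← add_assoc, v8_add_self,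
      zero_add]
  · have ha : qV (s + u0) = 1 := by rw [qV_add, hs, zne hb, show qV u0 = 0 from rfl]; decide
    refine ⟨_, rr_mem ha (show qV (emb w0) = 1 by decide), ?_⟩
    rw [mul_apply, refl8 (show qV (emb w0) = 1 by decide), refl8 ha, rf_emb_u0, rf, BV_add_right,
      BV_comm u0 s, zne hb, BV_self, add_zero, one_smul, add_comm s u0, ← add_assoc, v8_add_self,
      zero_add]

theorem ev_transitive' {s t : V8} (hs : qV s = 0) (hs0 : s ≠ 0) (ht : qV t = 0) (ht0 : t ≠ 0) :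
    ∃ g ∈ Ev, g.1 s = t := by
  obtain ⟨g, hg, e⟩ := ev_transitive hs hs0
  obtain ⟨g', hg', e'⟩ := ev_transitive ht ht0
  refine ⟨g' * g⁻¹, mul_mem hg' (inv_mem hg), ?_⟩
  rw [mul_apply, ← e, inv_apply_self, e']

/-! ### The root group at `u0` -/

/-- The root transformation, computably. -/
def sgf (w : W6) (x : V8) : V8 := (x.1 + BW x.2.2 w + qW w * x.2.1, x.2.1, x.2.2 + x.2.1 • w)

theorem polar_u0_emb (w : W6) : polar Q8 u0 (emb w) = 0 := by
  rw [polar_Q8, BV_comm, BV_emb_u0]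

/-- The root transformation. -/
noncomputable def sg (w : W6) : Orth Q8 :=
  siegel Q8 u0 (emb w) (by rw [Q8_apply]; rfl) (polar_u0_emb w)

theorem sg_apply (w : W6) (x : V8) : (sg w).1 x = sgf w x := by
  rw [sg, siegel_apply, polar_Q8, polar_Q8, Q8_apply, qV_emb, CharTwo.neg_eq, CharTwo.sub_eq_add]
  simp [sgf, emb, u0, BV, Prod.ext_iff, add_assoc]

theorem sg_u0 (w : W6) : (sg w).1 u0 = u0 := by rw [sg_apply]; simp [sgf, u0]

theorem sg_zero : sg 0 = 1 := by
  refine orth_ext fun x => ?_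
  rw [sg_apply, one_apply]
  simp [sgf, qW]

theorem sg_add (w w' : W6) : sg w * sg w' = sg (w + w') := by
  rw [sg, sg, siegel_mul]
  rfl

theorem sg_sq (w : W6) : sg w * sg w = 1 := by rw [sg_add, w6_add_self, sg_zero]

theorem sg_v0 (w : W6) : (sg w).1 v0 = (qW w, 1, w) := by rw [sg_apply]; simp [sgf, v0]

theorem sg_emb (w x : W6) : (sg w).1 (emb x) = (BW x w, 0, x) := by rw [sg_apply]; simp [sgf, emb]

theorem sg_inj {w w' : W6} (h : sg w = sg w') : w = w' := by
  have := congrArg (fun g : Orth Q8 => (g.1 v0).2.2) h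
  simpa [sg_v0] using this

theorem sg_move (w : W6) (x : V8) :
    (sg w).1 x + x = (BW x.2.2 w + qW w * x.2.1, 0, x.2.1 • w) := by
  rw [sg_apply]
  simp only [sgf, Prod.ext_iff, Prod.fst_add, Prod.snd_add]
  refine ⟨?_, CharTwo.add_self_eq_zero _, ?_⟩
  · linear_combination x.1 * (CharTwo.two_eq_zero (R := ZMod 2))
  · have h : x.2.2 + x.2.1 • w + x.2.2 = x.2.1 • w := by
      rw [add_comm x.2.2, add_assoc, w6_add_self, add_zero]
    exact Prod.ext_iff.1 h |>.imp id (fun h => by simpa [Prod.ext_iff] using h)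

theorem ext_sg {k : Orth Q8} {H : W6 → W6} (hk : Ext k H) (w : W6) : k * sg w = sg (H w) * k := by
  refine ext8 ?_ ?_ fun x => ?_ <;> simp only [mul_apply]
  · rw [sg_u0, hk.hu, sg_u0]
  · rw [sg_v0, hk.apply, hk.hv, sg_v0, hk.qW_eq]
  · rw [sg_emb, hk.apply, hk.hw, sg_emb, hk.BW_eq]

theorem ext_sg' {k : Orth Q8} {H : W6 → W6} (hk : Ext k H) (w : W6) :
    k * sg w * k⁻¹ = sg (H w) := by
  rw [ext_sg hk, mul_inv_cancel_right]

/-- An isometry fixing `u0` splits into a root transformation and an extension. -/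
theorem stab_split {g : Orth Q8} (hg : g.1 u0 = u0) :
    Ext (sg (g.1 v0).2.2 * g) fun x => (g.1 (emb x)).2.2 := by
  have hy1 : BV (g.1 v0) u0 = 1 := by
    conv_lhs => rw [← hg]
    rw [BV_g]; rfl
  have hy0 : qV (g.1 v0) = 0 := by rw [qV_g]; rfl
  refine ⟨by rw [mul_apply, hg, sg_u0], ?_, fun x => ?_⟩
  · rw [mul_apply, sg_apply]
    generalize g.1 v0 = y at hy1 hy0 ⊢
    obtain ⟨a, b, y⟩ := y
    simp [BV, u0] at hy1
    subst hy1
    simp only [qV, mul_one, zadd] at hy0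
    simp [sgf, v0, BW_self, hy0, CharTwo.add_self_eq_zero, w6_add_self]
  · have hz1 : BV (g.1 (emb x)) u0 = 0 := by
      conv_lhs => rw [← hg]
      rw [BV_g, BV_emb_u0]
    have hyz : BV (g.1 v0) (g.1 (emb x)) = 0 := by
      rw [BV_g]; simp [BV, v0, emb]
    rw [mul_apply, sg_apply]
    generalize g.1 v0 = y at hy1 hyz ⊢
    generalize g.1 (emb x) = z at hz1 hyz ⊢
    obtain ⟨a, b, y⟩ := y
    obtain ⟨c, d, z⟩ := z
    simp [BV, u0] at hy1 hz1
    subst hy1 hz1
    simp only [BV, mul_zero, zero_add, mul_one, zadd] at hyz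
    simp [sgf, emb, hyz, BW_comm y z, CharTwo.add_self_eq_zero]

/-- An isometry fixing `u0` is a root transformation times an extension. -/
theorem stab_eq {g : Orth Q8} (hg : g.1 u0 = u0) :
    g = sg (g.1 v0).2.2 * (sg (g.1 v0).2.2 * g) := by
  rw [← mul_assoc, sg_sq, one_mul]

/-- `g` lies in the root group at `u`. -/
def InE (g : Orth Q8) (u : V8) : Prop := ∀ x, BV x u = 0 → g.1 x + x = 0 ∨ g.1 x + x = u

theorem eq_sg {g : Orth Q8} (hg : g.1 u0 = u0)
    (h : ∀ x, BV x u0 = 0 → g.1 x + x = 0 ∨ g.1 x + x = u0) : g = sg (g.1 v0).2.2 := by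
  have hH : ∀ x : W6, (g.1 (emb x)).2.2 = x := fun x => by
    rcases h (emb x) (BV_emb_u0 x) with e | e <;> rw [v8_add_eq e] <;> simp [emb, u0]
  have e : sg (g.1 v0).2.2 * g = 1 :=
    (stab_split hg).ext ⟨one_apply _, one_apply _, fun x => by rw [one_apply]; simp [hH]⟩
  calc g = sg (g.1 v0).2.2 * (sg (g.1 v0).2.2 * g) := stab_eq hg
    _ = _ := by rw [e, mul_one]

theorem InE.fix {g : Orth Q8} {u : V8} (h : InE g u) : g.1 u = u := by
  rcases h u (BV_self u) with e | e
  · rw [v8_add_eq e, zero_add]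
  · have h2 : g.1 u = 0 := by rw [v8_add_eq e, v8_add_self]
    rw [LinearEquiv.map_eq_zero_iff] at h2
    rw [h2, g_zero]

theorem InE.conj {g : Orth Q8} {u : V8} (h : InE g u) (k : Orth Q8) :
    InE (k * g * k⁻¹) (k.1 u) := by
  intro x hx
  obtain ⟨y, rfl⟩ : ∃ y, k.1 y = x := ⟨_, self_apply_inv k x⟩
  rw [BV_g] at hx
  rw [mul_apply, inv_apply_self, mul_apply, ← g_add]
  rcases h y hx with e | e <;> rw [e]
  · exact Or.inl (g_zero k)
  · exact Or.inr rfl

theorem sg_mem_of_one {a : W6} (ha : qW a = 1) : sg a ∈ Ev := by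
  obtain ⟨v, hv⟩ : ∃ v, BW v a = 1 := by
    by_contra! h
    have h0 := BW_nd (x := a) fun y => by rw [BW_comm]; exact (zcases _).resolve_right (h y)
    rw [h0] at ha
    exact absurd ha (by decide)
  have hk : Ext (refl Q8 (emb a)) (rw6 a) := by
    have hq : qV (emb a) = 1 := by rw [qV_emb, ha]
    exact ⟨by rw [refl8 hq, rf_emb_u0], by rw [refl8 hq, rf_emb_v0], fun x => by rw [refl8 hq, rf_emb]⟩
  have h : refl Q8 (emb a) * sg v * (refl Q8 (emb a))⁻¹ * (sg v)⁻¹ = sg a := by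
    rw [ext_sg' hk, inv_eq_of_mul_eq_one_left (sg_sq v), sg_add]
    congr 1
    rw [rw6, hv, one_smul, add_comm v, add_assoc, w6_add_self, add_zero]
  rw [← h, ← commutatorElement_def]
  exact Subgroup.commutator_mem_commutator (Subgroup.mem_top _) (Subgroup.mem_top _)

theorem sg_mem (w : W6) : sg w ∈ Ev := by
  rcases zcases (qW w) with h | h
  · by_cases h0 : w = 0
    · rw [h0, sg_zero]; exact one_mem _
    obtain ⟨a, ha, hb⟩ := (by decide : ∀ w : W6, qW w = 0 → w ≠ 0 → ∃ a, qW a = 1 ∧ qW (w + a) = 1) w h h0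
    have := mul_mem (sg_mem_of_one hb) (sg_mem_of_one ha)
    rwa [sg_add, add_assoc, w6_add_self, add_zero] at this
  · exact sg_mem_of_one h

/-- Coordinates of the standard hyperbolic form. -/
def coord8 : (Fin 4 ⊕ Fin 4 → ZMod 2) ≃ₗ[ZMod 2] V8 where
  toFun v := (v (.inl 0), v (.inr 0), v (.inl 1), v (.inr 1), v (.inl 2), v (.inr 2), v (.inl 3), v (.inr 3))
  invFun x := Sum.elim ![x.1, x.2.2.1, x.2.2.2.2.1, x.2.2.2.2.2.2.1]
    ![x.2.1, x.2.2.2.1, x.2.2.2.2.2.1, x.2.2.2.2.2.2.2]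
  left_inv v := by ext (i | i) <;> fin_cases i <;> rfl
  right_inv _ := rfl
  map_add' _ _ := rfl
  map_smul' _ _ := rfl

theorem coord8_spec (v : Fin 4 ⊕ Fin 4 → ZMod 2) :
    Q8 (coord8 v) = Cfsg.quadFormPlus 4 (ZMod 2) v := by
  show qV (_, _, _, _, _, _, _, _) = _
  simp only [qV, qW, Cfsg.quadFormPlus, Fin.sum_univ_four]
  ring

theorem card_orth8 : Nat.card (Orth Q8) = 348364800 := by
  rw [← Nat.card_congr (isometryEquivModel coord8 coord8_spec).toEquiv,
    CfsgLib.Classical.SmallIso.card_isometryGroup_plus 3, Nat.card_zmod]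
  norm_num [Finset.prod_range_succ]

theorem card_omega8 : Nat.card (Cfsg.Omega (ZMod 2) (Cfsg.quadFormPlus 4 (ZMod 2))) = 174182400 := by
  have h := Subgroup.card_mul_index Ev
  rw [card_orth8, index_Ev] at h
  rw [Nat.card_congr (commutatorEquiv (isometryEquivModel coord8 coord8_spec)).toEquiv]
  change Nat.card Ev = 174182400
  omega

end CfsgLib.CoOneType
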