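import Cfsg.Agent.Lib.CoOneType.Root
import Cfsg.Agent.Lib.CoOneType.Forms

/-!
# At most three classes of involutions
-/

set_option autoImplicit false
set_option linter.style.haveILetI false
set_option synthInstance.maxSize 20000
set_option maxRecDepth 20000

namespace CfsgLib.CoOneType

open CfsgLib.Classical.Quad

universe u

variable {G : Type u} [Group G]

/-- `x` acts on `E s` with four-dimensional commutator, not isotropically. -/
def CAt (S : Sys G) (s x : G) : Prop :=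
  S.K s ∧ Commute x s ∧ x ∉ S.E s ∧ ¬ AT S s x ∧ ¬ Small S s x

namespace Model

variable {S : Sys G} {s : G} {π : G → V8} (M : Model s (S.E s) π)
include M

theorem not_mem_of_acts {x : G} {g : Orth Q8} (hx : Acts s (S.E s) π x g) (hg : g ≠ 1) : x ∉ S.E s :=
  fun hm => hg (M.acts_unique hx (M.acts_mem hm))

theorem root_of_bg_zero (hK : S.K s) {x : G} (hx : Acts s (S.E s) π x (bg 0)) : RootAt S s x := by
  rw [bg_zero] at hx
  refine M.root_of_acts hK hx (fun h => ?_) h0_aType ⟨emb e1, by decide, h0_inE⟩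
  have := congrArg (fun g : Orth Q8 => (g.1 (emb f1)).2.2) h
  rw [h0_ext.hw, one_apply] at this
  exact absurd this (by decide)

theorem cAt_of_acts (hK : S.K s) {x : G} (hx : Acts s (S.E s) π x (bg (e3 + f3))) : CAt S s x :=
  ⟨hK, hx.1, M.not_mem_of_acts hx (bg_ne (Or.inr (Or.inr rfl))),
    fun h => bg_aType.2.2 ((M.at_iff hx).1 h), fun h => by
      obtain ⟨e, he, hI⟩ := (M.small_iff hx).1 h
      exact BigW.not_inE (a := e3 + f3) (Or.inr (Or.inr rfl)) he hI⟩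

/-- Two involutions with the same image. -/
theorem coset {x x' : G} {a : W6} (ha : BigW a) (hx : Acts s (S.E s) π x (bg a)) (hxx : x * x = 1)
    (hx' : Acts s (S.E s) π x' (bg a)) (hxx' : x' * x' = 1) :
    ∃ y, Commute y s ∧ (y * x * y⁻¹ = x' ∨ y * x * y⁻¹ = x' * s) := by
  have hi : x⁻¹ = x := inv_eq_of_mul_eq_one_left hxx
  have hi' : x'⁻¹ = x' := inv_eq_of_mul_eq_one_left hxx'
  have hq : x * x' ∈ S.E s := M.faith _ (by
    have := M.acts_mul hx hx'
    rwa [bg_sq ha.fix.1] at this)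
  have hfix : bf a (π (x * x')) = π (x * x') := by
    have h := hx.2 _ hq
    have e : x * (x * x') * x⁻¹ = (x * x')⁻¹ := by
      rw [← mul_assoc x x x', hxx, one_mul, mul_inv_rev, hi']
    rw [e, M.map_inv hq, bg_apply] at h
    exact h.symm
  obtain ⟨v, hv⟩ := ha.range hfix
  obtain ⟨y, hy, rfl⟩ := M.surj v
  have hr : x * y * x⁻¹ * y⁻¹ ∈ S.E s := (S.E s).mul_mem (M.normal x hx.1 y hy) ((S.E s).inv_mem hy)
  have hrπ : π (x * y * x⁻¹ * y⁻¹) = π (x * x') := by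
    rw [M.map_mul _ (M.normal x hx.1 y hy) _ ((S.E s).inv_mem hy), M.map_inv hy, hx.2 y hy, bg_apply, hv]
  refine ⟨y, M.le_cent y hy, ?_⟩
  have e0 : y * x * y⁻¹ = x * (x * y * x⁻¹ * y⁻¹) := by
    calc y * x * y⁻¹ = (x * x) * (y * x * y⁻¹) := by rw [hxx, one_mul]
      _ = x * (x * y * x * y⁻¹) := by group
      _ = _ := by rw [hi]
  rcases M.eq_of_map hr hq hrπ with e | e <;> rw [e0, e]
  · exact Or.inl (by rw [← mul_assoc, hxx, one_mul])
  · exact Or.inr (by rw [← mul_assoc, ← mul_assoc, hxx, one_mul])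

/-- In the remaining form an involution is conjugate to its product with `s`. -/
theorem conj_sign {x : G} (hx : Acts s (S.E s) π x (bg (e3 + f3))) (hxx : x * x = 1) :
    IsConj x (x * s) := by
  have hi : x⁻¹ = x := inv_eq_of_mul_eq_one_left hxx
  obtain ⟨v, hv⟩ := (by decide : ∃ v : V8, bf (e3 + f3) v + v = emb (e3 + f3))
  obtain ⟨y, hy, rfl⟩ := M.surj v
  have hr : x * y * x⁻¹ * y⁻¹ ∈ S.E s := (S.E s).mul_mem (M.normal x hx.1 y hy) ((S.E s).inv_mem hy)
  set r := x * y * x⁻¹ * y⁻¹ with hrdef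
  have hrπ : π r = emb (e3 + f3) := by
    rw [hrdef, M.map_mul _ (M.normal x hx.1 y hy) _ ((S.E s).inv_mem hy), M.map_inv hy, hx.2 y hy, bg_apply, hv]
  have hr2 : r * r = s := by
    rw [M.square r hr, hrπ, show qV (emb (e3 + f3)) = 1 by decide, pw_one]
  have hconj : x * r * x⁻¹ = r⁻¹ := by
    rw [hrdef, hi]
    calc x * (x * y * x * y⁻¹) * x = (x * x) * y * x * y⁻¹ * x := by group
      _ = y * x⁻¹ * y⁻¹ * x⁻¹ := by rw [hxx, one_mul, hi]
      _ = (x * y * x * y⁻¹)⁻¹ := by group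
  refine isConj_iff.2 ⟨r, ?_⟩
  have hs : s⁻¹ = s := inv_eq_of_mul_eq_one_left M.sq_one
  calc r * x * r⁻¹ = x * (x⁻¹ * r * x) * r⁻¹ := by group
    _ = x * (x * r * x⁻¹) * r⁻¹ := by rw [hi]
    _ = x * (r * r)⁻¹ := by rw [hconj]; group
    _ = x * s := by rw [hr2, hs]

end Model

theorem stab_invol {g : Orth Q8} (h2 : g * g = 1) (hu : g.1 u0 = u0) {k : Orth Q8}
    (hk : k = sg (g.1 v0).2.2 * g) :
    k * k = 1 ∧ (g.1 (emb (g.1 v0).2.2)).2.2 = (g.1 v0).2.2 := by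
  set y := (g.1 v0).2.2 with hy
  have hE := stab_split hu
  rw [← hy, ← hk] at hE
  set H : W6 → W6 := fun x => (g.1 (emb x)).2.2
  have hgk : g = sg y * k := hk ▸ stab_eq hu
  have hg2 : sg (y + H y) * (k * k) = 1 := by
    rw [← sg_add, ← h2, hgk, show sg y * k * (sg y * k) = sg y * (k * sg y) * k by group, ext_sg hE]
    group
  have h1 := congrArg (fun f : Orth Q8 => (f.1 v0).2.2) hg2
  rw [mul_apply, (hE.mul hE).hv, sg_v0, one_apply] at h1
  have h1' : y + H y = 0 := h1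
  rw [h1', sg_zero, one_mul] at hg2
  exact ⟨hg2, (zadd_w6.1 h1').symm⟩

namespace Pair

variable {S : Sys G} {s u : G} {π π' : G → V8} (p : Pair S s u π π')
include p

theorem comm_u {x : G} {a : W6} (ha : BigW a) (hx : Acts s (S.E s) π x (bg a)) (hxx : x * x = 1) :
    Commute x u := by
  have hi : x⁻¹ = x := inv_eq_of_mul_eq_one_left hxx
  obtain ⟨v, hv⟩ := ha.range (x := u0) (by
    simp [bf, sgf, u0, show hf 0 = 0 by decide])
  obtain ⟨y, hy, rfl⟩ := p.left.surj v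
  have hd := (S.E s).mul_mem (p.left.normal x hx.1 y hy) ((S.E s).inv_mem hy)
  set d := x * y * x⁻¹ * y⁻¹ with hddef
  have hdπ : π d = u0 := by
    rw [hddef, p.left.map_mul _ (p.left.normal x hx.1 y hy) _ ((S.E s).inv_mem hy), p.left.map_inv hy,
      hx.2 y hy, bg_apply, hv]
  have hd2 : d⁻¹ = d := inv_eq_of_mul_eq_one_left (by rw [p.left.sq_eq_one hd, hdπ]; rfl)
  have hxd : Commute x d := conj_eq_iff_commute.1 (by
    refine Eq.trans ?_ hd2
    rw [hddef, hi]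
    calc x * (x * y * x * y⁻¹) * x = (x * x) * y * x * y⁻¹ * x := by group
      _ = y * x⁻¹ * y⁻¹ * x⁻¹ := by rw [hxx, one_mul, hi]
      _ = (x * y * x * y⁻¹)⁻¹ := by group)
  rcases p.left.eq_of_map hd p.memE (hdπ.trans p.hu.symm) with e | e
  · rwa [e] at hxd
  · have h := hxd.mul_right hx.1
    rwa [e, mul_assoc, p.left.sq_one, mul_one] at h

/-- The identification of the two middle layers. -/
theorem exists_iso : ∃ g : W6 → W6, (∀ t w, Br S s u π t w → (π' t).2.2 = g w) ∧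
    (∀ a b, g (a + b) = g a + g b) ∧ (∀ w, qW (g w) = qW w) ∧ (∀ a b, BW (g a) (g b) = BW a b) ∧
    Function.Bijective g := by
  classical
  choose T hT using p.exists_br
  set g : W6 → W6 := fun w => (π' (T w)).2.2 with hg
  have h0 : ∀ d, Br S s u π d 0 → (π' d).2.2 = 0 := fun d hd => by
    obtain ⟨b, a, rfl⟩ := p.inter (p.br_zero hd) hd.1
    rw [p.right.map_mul _ (p.pwu_mem b).2 _ (p.pws_mem a).2, p.right.map_pw, p.symm.map_pwu, zero_add]
  have hwd : ∀ t w, Br S s u π t w → (π' t).2.2 = g w := by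
    intro t w ht
    have hd := p.br_mul (p.br_inv (hT w)) ht
    rw [w6_add_self] at hd
    have h := h0 _ hd
    rw [p.right.map_mul _ ((S.E u).inv_mem (hT w).1) _ ht.1, p.right.map_inv (hT w).1, Prod.snd_add,
      Prod.snd_add] at h
    exact (zadd_w6.1 h).symm
  have hadd : ∀ a b, g (a + b) = g a + g b := fun a b => by
    rw [← hwd _ _ (p.br_mul (hT a) (hT b)), p.right.map_mul _ (hT a).1 _ (hT b).1]; rfl
  have hq : ∀ w, qW (g w) = qW w := fun w => by
    rw [← (p.right_coord (hT w)).2]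
    exact pw_inj p.right.ne_one ((p.right.square _ (hT w).1).symm.trans (p.sq_rule (hT w)))
  have hB : ∀ a b, BW (g a) (g b) = BW a b := fun a b => by
    have h := hq (a + b)
    rw [hadd, qW_add, qW_add, hq, hq] at h
    exact add_left_cancel h
  refine ⟨g, hwd, hadd, hq, hB, Finite.injective_iff_bijective.1 fun a b hab => zadd_w6.1 (BW_nd fun y => ?_)⟩
  rw [← hB, hadd, hab, w6_add_self, BW_zero_left]

/-- The actions on the two middle layers agree. -/
theorem equivariant {g : W6 → W6} (hg : ∀ t w, Br S s u π t w → (π' t).2.2 = g w) {x : G}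
    {τ τ' : Orth Q8} (hx : Acts s (S.E s) π x τ) (hx' : Acts u (S.E u) π' x τ') (w : W6) :
    g (τ.1 (emb w)).2.2 = (τ'.1 (emb (g w))).2.2 := by
  have hxs : Commute x s := hx.1
  have hxu : Commute x u := hx'.1
  have hu : τ.1 u0 = u0 := by rw [← p.hu, ← hx.2 u p.memE, conj_eq_iff_commute.2 hxu]
  have hs : τ'.1 u0 = u0 := by rw [← p.hs, ← hx'.2 s p.memR, conj_eq_iff_commute.2 hxs]
  obtain ⟨t, ht⟩ := p.exists_br w
  have hE := stab_split hu
  have h1 : Br S s u π (x * t * x⁻¹) (τ.1 (emb w)).2.2 := by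
    refine ⟨p.right.normal x hxu t ht.1, ?_⟩
    have h := p.left.acts_mul (p.left.acts_mul hx ht.2) (p.left.acts_inv hx)
    have e : τ * sg w * τ⁻¹ = sg (τ.1 (emb w)).2.2 := by
      set y := (τ.1 v0).2.2
      calc τ * sg w * τ⁻¹ = (sg y * (sg y * τ)) * sg w * (sg y * (sg y * τ))⁻¹ := by rw [← stab_eq hu]
        _ = sg y * ((sg y * τ) * sg w * (sg y * τ)⁻¹) * (sg y)⁻¹ := by group
        _ = _ := by
          rw [ext_sg' hE, inv_eq_of_mul_eq_one_left (sg_sq y), sg_add, sg_add, add_comm y, add_assoc,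
            w6_add_self, add_zero]
    rwa [e] at h
  rw [← hg _ _ h1, hx'.2 t ht.1, (p.right_coord ht).1, hg t w ht,
    show (((π' t).1, 0, g w) : V8) = (π' t).1 • u0 + emb (g w) by simp [u0, emb, Prod.ext_iff],
    g_add, map_smul, hs]
  simp [u0]

omit p in
/-- Moving a stabilizer element to the normal form. -/
theorem to_big {s : G} {E : Subgroup G} {π : G → V8} (M : Model s E π) {k : Orth Q8} {H : W6 → W6}
    (hk : Ext k H) (h2 : k * k = 1) (ha : ∀ x, BW (H x) x = 0) (h1 : k ≠ 1) :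
    ∃ C : W6 → W6, (∀ a b, C (a + b) = C a + C b) ∧ (∀ a, qW (C a) = qW a) ∧
      (∀ a b, BW (C a) (C b) = BW a b) ∧ (∀ a, C (H a) = hf (C a)) ∧ Function.Bijective C ∧
      ∀ x y, Acts s E π x (sg y * k) → x * x = 1 →
        ∃ d, Commute d s ∧ hf (C y) = C y ∧ Acts s E π (d * x * d⁻¹) (bg (cls (C y))) := by
  obtain ⟨c, hc, ⟨C, hC⟩, e⟩ := conj_h0 hk h2 ha h1
  have hCi : Function.Injective C := fun a b h => by
    have h' : c.1 (emb a) = c.1 (emb b) := by rw [hC.hw, hC.hw, h]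
    exact congrArg (fun z : V8 => z.2.2) (c.1.injective h')
  refine ⟨C, hC.map_add, hC.qW_eq, hC.BW_eq, fun a => ?_, Finite.injective_iff_bijective.1 hCi,
    fun x y hx hxx => ?_⟩
  · have h3 : c * k = h0 * c := by rw [← e]; group
    have h4 : (c * k).1 (emb a) = (h0 * c).1 (emb a) := by rw [h3]
    rw [(hC.mul hk).hw, (h0_ext.mul hC).hw] at h4
    exact congrArg (fun z : V8 => z.2.2) h4
  obtain ⟨d₁, hd₁⟩ := M.lift c hc
  have hA : Acts s E π (d₁ * x * d₁⁻¹) (bg (C y)) := by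
    have := M.acts_mul (M.acts_mul hd₁ hx) (M.acts_inv hd₁)
    rwa [show c * (sg y * k) * c⁻¹ = c * sg y * c⁻¹ * (c * k * c⁻¹) by group, ext_sg' hC, e] at this
  have hfix : hf (C y) = C y := by
    refine bg_fix (M.acts_unique (M.acts_mul hA hA) ?_)
    rw [sq_conj hxx]
    exact M.acts_mem E.one_mem
  obtain ⟨v, hv⟩ := (by decide : ∀ y : W6, hf y = y → ∃ v, y + v + hf v = cls y) (C y) hfix
  obtain ⟨d₂, hd₂⟩ := M.lift (sg v) (sg_mem v)
  refine ⟨d₂ * d₁, hd₂.1.mul_left hd₁.1, hfix, ?_⟩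
  have := M.acts_mul (M.acts_mul hd₂ hA) (M.acts_inv hd₂)
  rw [inv_eq_of_mul_eq_one_left (sg_sq v), bg_shift, hv] at this
  rwa [show d₂ * d₁ * x * (d₂ * d₁)⁻¹ = d₂ * (d₁ * x * d₁⁻¹) * d₂⁻¹ by group]

/-- The other side of a form with four-dimensional commutator. -/
theorem side {x : G} {a : W6} (ha : BigW a) (hx : Acts s (S.E s) π x (bg a)) (hxx : x * x = 1) :
    ∃ x₁ x₂ b₁ b₂, IsConj x x₁ ∧ IsConj x x₂ ∧ x₁ * x₁ = 1 ∧ x₂ * x₂ = 1 ∧
      (b₁ = 0 ∨ BigW b₁) ∧ (b₂ = 0 ∨ BigW b₂) ∧ b₁ ≠ b₂ ∧ qW (b₁ + b₂) = qW a ∧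
      Acts u (S.E u) π' x₁ (bg b₁) ∧ Acts u (S.E u) π' x₂ (bg b₂) := by
  have hxu := p.comm_u ha hx hxx
  obtain ⟨τ', -, hτ'⟩ := p.right.act x hxu
  have hτu : τ'.1 u0 = u0 := by rw [← p.hs, ← hτ'.2 s p.memR, conj_eq_iff_commute.2 hx.1]
  have hτ2 : τ' * τ' = 1 := by
    have h := p.right.acts_mul hτ' hτ'
    rw [hxx] at h
    exact p.right.acts_unique h (p.right.acts_mem (S.E u).one_mem)
  obtain ⟨g, hg, hadd, hgq, hgB, hgb⟩ := p.exists_iso
  have heq : ∀ w, g (hf w) = (τ'.1 (emb (g w))).2.2 := fun w => by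
    rw [← p.equivariant hg hx hτ' w, bg_apply]
    simp [bf, sgf, emb]
  set y := (τ'.1 v0).2.2 with hy
  set H : W6 → W6 := fun z => (τ'.1 (emb z)).2.2 with hH
  have hk := stab_split hτu
  obtain ⟨hkk, hHy⟩ := stab_invol hτ2 hτu rfl
  have hHa : ∀ z, BW (H z) z = 0 := fun z => by
    obtain ⟨w, rfl⟩ := hgb.2 z
    show BW (τ'.1 (emb (g w))).2.2 (g w) = 0
    rw [← heq, hgB]; exact (by decide : ∀ x : W6, BW (hf x) x = 0) w
  have hk1 : sg y * τ' ≠ 1 := fun h => by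
    have h1 := hk.hw (g f1)
    rw [h, one_apply] at h1
    have h2 : g f1 = (τ'.1 (emb (g f1))).2.2 := congrArg (fun z : V8 => z.2.2) h1
    rw [← heq] at h2
    exact absurd (hgb.1 h2) (by decide)
  obtain ⟨C, hCadd, hCq, hCB, hCH, hCb, hmove⟩ := to_big p.right hk hkk hHa hk1
  obtain ⟨d₁, -, hf₁, hA₁⟩ := hmove x y (by rw [← stab_eq hτu]; exact hτ') hxx
  -- the second involution
  obtain ⟨z, hz, hzπ⟩ := p.left.surj v0
  set r := x⁻¹ * (z * x * z⁻¹) with hr
  have hr' : r = x⁻¹ * z * x⁻¹⁻¹ * z⁻¹ := by rw [hr]; group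
  have h1 := p.left.normal x⁻¹ hx.1.inv_left z hz
  have hrE : r ∈ S.E s := hr' ▸ (S.E s).mul_mem h1 ((S.E s).inv_mem hz)
  have hrπ : π r = (qW a, 0, a) := by
    rw [hr', p.left.map_mul _ h1 _ ((S.E s).inv_mem hz), p.left.map_inv hz, (p.left.acts_inv hx).2 z hz,
      hzπ, inv_eq_of_mul_eq_one_left (bg_sq ha.fix.1), bg_apply]
    simp [bf, sgf, v0, show hf 0 = 0 by decide, CharTwo.add_self_eq_zero]
  have hru : Commute r u := p.comm_of_perp hrE (by rw [hrπ]; simp [BV, u0])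
  obtain ⟨w', hw'⟩ := p.symm.exists_sg hrE hru
  have hw'a : w' = g a := by
    refine zadd_w6.1 (BW_nd fun v => ?_)
    obtain ⟨w, rfl⟩ := hgb.2 v
    obtain ⟨t, ht⟩ := p.exists_br w
    have e1 := p.comm_rule ht hrE hru
    have e2 := p.symm.comm_rule hw' ht.1 ht.2.1
    rw [hrπ, show ((qW a, 0, a) : V8).2.2 = a from rfl] at e1
    rw [hg t w ht] at e2
    set c1 := pw u (BW a w) * pw s (BW a w)
    set c2 := pw s (BW (g w) w') * pw u (BW (g w) w')
    have hct : Commute t (c1) := (commute_pw (p.right.le_cent t ht.1) _).mul_right (commute_pw ht.2.1 _)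
    have hcr : Commute r (c1) := (commute_pw hru _).mul_right (commute_pw (p.left.le_cent r hrE) _)
    have e3 : r * t * r⁻¹ = t * c1⁻¹ := by
      calc r * t * r⁻¹ = r * (t * r * t⁻¹)⁻¹ * t := by group
        _ = r * (r * c1)⁻¹ * t := by rw [e1]
        _ = r * c1⁻¹ * r⁻¹ * t := by group
        _ = c1⁻¹ * t := by rw [conj_eq_iff_commute.2 hcr.inv_right]
        _ = _ := hct.inv_right.eq.symm
    rw [e3, mul_right_inj] at e2
    have hc : c1⁻¹ = c1 := inv_eq_of_mul_eq_one_left (by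
      have h : Commute (pw u (BW a w)) (pw s (BW a w)) := commute_pw (commute_pw p.comm _).symm _
      show pw u (BW a w) * pw s (BW a w) * (pw u (BW a w) * pw s (BW a w)) = 1
      rw [h.symm.mul_mul_mul_comm, ← pw_add p.right.sq_one, ← pw_add p.left.sq_one, CharTwo.add_self_eq_zero,
        pw_zero, pw_zero, mul_one])
    rw [hc, show c2 = pw u (BW (g w) w') * pw s (BW (g w) w') from
      (commute_pw (commute_pw p.comm.symm _).symm _).eq] at e2
    rw [BW_comm, BW_add_right, ← (p.dd_inj e2).1, hgB, BW_comm a]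
    exact CharTwo.add_self_eq_zero _
  subst hw'a
  have hHga : H (g a) = g a := by
    show (τ'.1 (emb (g a))).2.2 = g a
    rw [← heq, ha.fix.1]
  have hA₂ : Acts u (S.E u) π' (x * r) (sg (y + g a) * (sg y * τ')) := by
    have h := p.right.acts_mul hτ' hw'.2
    have e : τ' * sg (g a) = sg (y + g a) * (sg y * τ') := by
      conv_lhs => rw [stab_eq hτu, ← hy, mul_assoc, ext_sg hk, ← mul_assoc, sg_add]
      rw [show (τ'.1 (emb (g a))).2.2 = g a from hHga]
    rwa [e] at h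
  have hxr : x * r = z * x * z⁻¹ := by rw [hr]; group
  obtain ⟨d₂, -, hf₂, hA₂'⟩ := hmove (x * r) (y + g a) hA₂ (hxr ▸ sq_conj hxx)
  have hfa : hf (C (g a)) = C (g a) := by rw [← hCH]; exact congrArg C hHga
  have hne : cls (C (g a)) ≠ 0 := fun h => by
    obtain ⟨v, hv⟩ := cls_eq_zero hfa h
    obtain ⟨v', rfl⟩ := hCb.2 v
    obtain ⟨w, rfl⟩ := hgb.2 v'
    rw [← hCH, ← hCadd, show (τ'.1 (emb (g w))).2.2 = g (hf w) from (heq w).symm, ← hadd] at hv
    have hv' := hgb.1 (hCb.1 hv)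
    have : cls a = 0 := by
      rw [← hv', cls_add, cls_hf]; exact w6_add_self _
    exact ha.ne (ha.fix.2 ▸ this)
  refine ⟨d₁ * x * d₁⁻¹, d₂ * (x * r) * d₂⁻¹, cls (C y), cls (C (y + g a)), isConj_iff.2 ⟨d₁, rfl⟩,
    isConj_iff.2 ⟨d₂ * z, by rw [hxr]; group⟩, sq_conj hxx, sq_conj (hxr ▸ sq_conj hxx), cls_cases _,
    cls_cases _, fun h => hne ?_, ?_, hA₁, hA₂'⟩
  · rw [hCadd, cls_add, eq_comm, add_eq_left] at h
    exact h
  · rw [hCadd, cls_add, ← add_assoc, w6_add_self, zero_add, qW_cls hfa, hCq, hgq]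

theorem sg_e1_root {s : G} {π : G → V8} (M : Model s (S.E s) π) (hK : S.K s) {x : G}
    (hx : Acts s (S.E s) π x (sg e1)) : RootAt S s x :=
  M.root_of_acts hK hx (sg_ne (by decide)) (sg_aType (by decide)) ⟨u0, by decide, sg_inE e1⟩

/-- Some form with four-dimensional commutator is made of good involutions. -/
theorem exists_good_form [Finite G] : ∃ a x, BigW a ∧ x * x = 1 ∧ Acts s (S.E s) π x (bg a) ∧
    Good S x ∧ Good S (x * s) := by
  obtain ⟨k, hk, hku⟩ := ev_transitive (show qV (emb e3) = 0 by decide) (show emb e3 ≠ 0 by decide)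
  have N₁ := p.right.comp hk
  set π₁ : G → V8 := fun x => k.1 (π' x) with hπ₁
  obtain ⟨s₁, hs₁, hs₁π⟩ := N₁.surj u0
  have hs₁2 : s₁ * s₁ = 1 := (N₁.sq_eq_one hs₁).2 (by rw [hs₁π]; rfl)
  obtain ⟨π₁', p₁⟩ := S.exists_pair p.Ku N₁ hs₁ hs₁2 hs₁π
  have hsπ : π₁ s = emb e3 := by rw [hπ₁]; simp only [p.hs, hku]
  obtain ⟨T, hT⟩ := p₁.exists_br e1
  obtain ⟨Q, hQ, hQs₁, hQπ⟩ := p₁.exists_q e2
  have hs_s₁ : Commute s s₁ := p₁.comm_of_perp p.memR (by rw [hsπ]; exact BV_emb_u0 _)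
  have hTs : Commute T s := by
    have := p₁.comm_rule hT p.memR hs_s₁
    rw [hsπ, show BW (emb e3).2.2 e1 = 0 by decide, pw_zero, pw_zero, mul_one, mul_one] at this
    exact conj_eq_iff_commute.1 this
  have hQs : Commute Q s := (N₁.commute_iff hQ p.memR).2 (by rw [hQπ, hsπ]; decide)
  have hT2 : T * T = 1 := by rw [p₁.sq_rule hT, show qW e1 = 0 from rfl, pw_zero]
  have hT1 : T ≠ 1 := fun e => sg_ne (show e1 ≠ 0 by decide)
    (N₁.acts_unique hT.2 (e ▸ N₁.acts_mem (S.E u).one_mem))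
  have hgood : ∀ q ∈ S.E u, Good S (T * q) := fun q hq =>
    Or.inr ⟨u, sg_e1_root p₁ N₁ p.Ku (p₁.acts_tq hT hq)⟩
  have hgT : Good S T := Or.inl (S.K_of_mem p₁.Ku hT.1 hT2 hT1)
  have hgTs : Good S (T * s) := hgood s p.memR
  have hgTQ : Good S (T * Q) := hgood Q hQ
  have hgTQs : Good S (T * Q * s) := by rw [mul_assoc]; exact hgood _ ((S.E u).mul_mem hQ p.memR)
  have hTQ2 : T * Q * (T * Q) = 1 := by
    rw [p₁.sq_tq hT hQ hQs₁ (by rw [hQπ]; rfl), hQπ, show qW e1 + qV (emb e2) = 0 by decide, pw_zero]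
  -- the action on `E u`
  have hTu' : Acts u (S.E u) π' T (k⁻¹ * sg e1 * k) := by
    refine ⟨hT.2.1, fun q hq => ?_⟩
    have h := hT.2.2 q hq
    rw [hπ₁] at h
    simp only at h
    rw [mul_apply, mul_apply, ← h, inv_apply_self]
  set σ := k⁻¹ * sg e1 * k with hσdef
  have hσA : AType σ := by
    have := (sg_aType (show qW e1 = 0 from rfl)).conj k⁻¹
    rwa [inv_inv] at this
  -- the action on `E s`
  obtain ⟨τ, -, hτ⟩ := p.left.act T hTs
  have hτu : τ.1 u0 = u0 := by rw [← p.hu, ← hτ.2 u p.memE, conj_eq_iff_commute.2 hT.2.1]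
  have hτ2 : τ * τ = 1 := by
    have h := p.left.acts_mul hτ hτ
    rw [hT2] at h
    exact p.left.acts_unique h (p.left.acts_mem (S.E s).one_mem)
  obtain ⟨g, hg, hadd, hgq, hgB, hgb⟩ := p.exists_iso
  set y := (τ.1 v0).2.2 with hy
  set H : W6 → W6 := fun z => (τ.1 (emb z)).2.2 with hH
  have hHσ : ∀ w, g (H w) = (σ.1 (emb (g w))).2.2 := fun w => p.equivariant hg hτ hTu' w
  have hk' := stab_split hτu
  obtain ⟨hkk, -⟩ := stab_invol hτ2 hτu rfl
  have hHa : ∀ w, BW (H w) w = 0 := fun w => by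
    rw [← hgB, hHσ]
    have := hσA (emb (g w))
    simpa [BV, emb] using this
  have hσs : σ.1 u0 = u0 := by rw [← p.hs, ← hTu'.2 s p.memR, conj_eq_iff_commute.2 hTs]
  have hzb : ∀ z, (σ.1 (emb z)).2.1 = 0 := fun z => by
    have h := BV_g σ (emb z) u0
    rw [hσs, BV_emb_u0] at h
    simpa [BV, u0] using h
  have hk1 : sg y * τ ≠ 1 := by
    intro h
    have hH1 : ∀ w, H w = w := fun w => by
      have h1 := hk'.hw w
      rw [h, one_apply] at h1
      exact (congrArg (fun z : V8 => z.2.2) h1).symm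
    obtain ⟨v, hv⟩ : ∃ v, k.1 v = emb f1 := ⟨_, self_apply_inv k _⟩
    have hvu : v.2.1 = 0 := by
      have h1 := BV_g k v u0
      rw [hv, hku, show BV (emb f1) (emb e3) = 0 by decide, eq_comm] at h1
      simpa [BV, u0] using h1
    obtain ⟨w, hw⟩ := hgb.2 v.2.2
    have hσv : σ.1 v = v ∨ σ.1 v = v + u0 := by
      have h1 := hHσ w
      rw [hH1, hw] at h1
      have hb := hzb v.2.2
      have e : v = v.1 • u0 + emb v.2.2 := by simp [u0, emb, Prod.ext_iff, hvu]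
      rw [e, g_add, map_smul, hσs]
      generalize σ.1 (emb v.2.2) = z at h1 hb ⊢
      rcases zcases z.1 with hz | hz
      · left; simp [u0, emb, Prod.ext_iff, hz, hb, h1.symm]
      · right; simp [u0, emb, Prod.ext_iff, hz, hb, h1.symm]
    rw [hσdef, mul_apply, mul_apply, hv, sg_apply] at hσv
    rcases hσv with e | e <;> have e' := congrArg k.1 e <;> rw [self_apply_inv] at e'
    · rw [hv] at e'; exact absurd e' (by decide)
    · rw [g_add, hv, hku] at e'; exact absurd e' (by decide)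
  obtain ⟨C, hCadd, hCq, hCB, hCH, hCb, hmove⟩ := to_big p.left hk' hkk hHa hk1
  obtain ⟨d₁, hd₁, -, hA₁⟩ := hmove T y (by rw [← stab_eq hτu]; exact hτ) hT2
  obtain ⟨w, hw⟩ := p.exists_sg hQ hQs
  have hgw : g w = (π' Q).2.2 := (hg Q w hw).symm
  have hHw : H w = w := by
    refine hgb.1 ?_
    rw [hHσ, hgw]
    have hQ' := p.right_coord hw
    have hfix : σ.1 (π' Q) = π' Q := by
      rw [hσdef, mul_apply, mul_apply, show k.1 (π' Q) = emb e2 from hQπ, sg_apply,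
        show sgf e1 (emb e2) = emb e2 by decide, ← hQπ]
      exact inv_apply_self k _
    generalize π' Q = v at hQ' hfix ⊢
    obtain ⟨a, b, z⟩ := v
    simp only [Prod.mk.injEq] at hQ'
    rw [hQ'.1.2.1, show ((a, 0, z) : V8) = a • u0 + emb z by simp [u0, emb, Prod.ext_iff], g_add, map_smul,
      hσs] at hfix
    have := congrArg (fun v : V8 => v.2.2) hfix
    simpa [u0, emb] using this
  have hA₂ : Acts s (S.E s) π (T * Q) (sg (y + w) * (sg y * τ)) := by
    have h := p.left.acts_mul hτ hw.2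
    have e : τ * sg w = sg (y + w) * (sg y * τ) := by
      conv_lhs => rw [stab_eq hτu, ← hy, mul_assoc, ext_sg hk', ← mul_assoc, sg_add]
      rw [show (τ.1 (emb w)).2.2 = w from hHw]
    rwa [e] at h
  obtain ⟨d₂, hd₂, -, hA₂'⟩ := hmove (T * Q) (y + w) hA₂ hTQ2
  have hne : cls (C w) ≠ 0 := by
    intro h
    obtain ⟨v, hv⟩ := cls_eq_zero (by rw [← hCH]; exact congrArg C hHw) h
    obtain ⟨v, rfl⟩ := hCb.2 v
    rw [← hCH, ← hCadd] at hv
    have hv' := congrArg g (hCb.1 hv)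
    rw [hadd, show (τ.1 (emb v)).2.2 = H v from rfl, hHσ, hgw] at hv'
    have hb := hzb (g v)
    have hQb := congrArg (fun z : V8 => z.2.1) (p.right_coord hw).1
    simp only at hQb
    have e : ∃ c : ZMod 2, π' Q = σ.1 (emb (g v)) + emb (g v) + c • u0 := by
      generalize π' Q = z at hv' hQb ⊢
      generalize σ.1 (emb (g v)) = z' at hv' hb ⊢
      refine ⟨z.1 + z'.1, ?_⟩
      simp [u0, emb, Prod.ext_iff, hb, hQb, ← hv']
      linear_combination (-z'.1) * (CharTwo.two_eq_zero (R := ZMod 2))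
    obtain ⟨c, e⟩ := e
    have e' := congrArg k.1 e
    rw [g_add, g_add, map_smul, hku, show k.1 (π' Q) = emb e2 from hQπ, hσdef, mul_apply, mul_apply,
      self_apply_inv, sg_move] at e'
    have e'' := congrArg (fun z : V8 => z.2.2) e'
    simp only [Prod.snd_add, Prod.smul_snd] at e''
    exact (by decide : ∀ c d : ZMod 2, e2 = d • e1 + c • e3 → False) c _ e''
  have hs' : ∀ {d x : G}, Commute d s → d * (x * s) * d⁻¹ = d * x * d⁻¹ * s := fun {d x} hd => by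
    rw [show d * (x * s) * d⁻¹ = d * x * d⁻¹ * (d * s * d⁻¹) by group, conj_eq_iff_commute.2 hd]
  rcases cls_cases (C y) with h | h
  · refine ⟨_, _, (cls_cases (C (y + w))).resolve_left ?_, sq_conj hTQ2, hA₂', S.Good_conj hgTQ d₂,
      hs' hd₂ ▸ S.Good_conj hgTQs d₂⟩
    rw [hCadd, cls_add, h, zero_add]; exact hne
  · exact ⟨_, _, h, sq_conj hT2, hA₁, S.Good_conj hgT d₁, hs' hd₁ ▸ S.Good_conj hgTs d₁⟩

end Pair

theorem Good_isConj {S : Sys G} {x y : G} (h : IsConj x y) (hy : Good S y) : Good S x := by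
  obtain ⟨g, rfl⟩ := isConj_iff.1 h
  exact S.Good_of_conj hy

theorem good_of_zero {S : Sys G} {u : G} {π' : G → V8} (N : Model u (S.E u) π') (hK : S.K u) {x : G}
    (hA : Acts u (S.E u) π' x (bg 0)) : Good S x :=
  Or.inr ⟨u, N.root_of_bg_zero hK hA⟩

namespace Sys

variable [Finite G] (S : Sys G)

theorem CAt_conj {g s x : G} (h : CAt S s x) : CAt S (g * s * g⁻¹) (g * x * g⁻¹) := by
  have hback : ∀ y : G, g⁻¹ * (g * y * g⁻¹) * g⁻¹⁻¹ = y := fun y => by group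
  refine ⟨S.K_conj g s h.1, commute_conj h.2.1, fun hm => h.2.2.1 ((S.E_conj g s h.1 x).1 hm), fun ha => ?_,
    fun ha => ?_⟩
  · have := S.AT_conj (g := g⁻¹) (S.K_conj g s h.1) ha
    rw [hback, hback] at this
    exact h.2.2.2.1 this
  · have := S.Small_conj (g := g⁻¹) (S.K_conj g s h.1) ha
    rw [hback, hback] at this
    exact h.2.2.2.2 this

theorem cAt_form {s x : G} {π : G → V8} (M : Model s (S.E s) π) (h : CAt S s x) (hxx : x * x = 1) :
    ∃ c, Commute c s ∧ Acts s (S.E s) π (c * x * c⁻¹) (bg (e3 + f3)) := by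
  obtain ⟨c, g, hc, hA, hg, hg1⟩ := M.exists_form h.2.1 hxx h.2.2.1
  have h' := S.CAt_conj (g := c) h
  rw [conj_eq_iff_commute.2 hc] at h'
  rcases hg with rfl | rfl | rfl | rfl | rfl | rfl
  · exact absurd rfl hg1
  · exact absurd ((M.at_iff hA).2 (sg_aType (by decide))) h'.2.2.2.1
  · exact absurd ((M.small_iff hA).2 ⟨u0, by decide, sg_inE w0⟩) h'.2.2.2.2
  · exact absurd ((M.at_iff hA).2 bg_aType.1) h'.2.2.2.1
  · exact absurd ((M.at_iff hA).2 bg_aType.2.1) h'.2.2.2.1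
  · exact ⟨c, hc, hA⟩

/-- Involutions with non-isotropic four-dimensional commutator are good. -/
theorem good_of_cAt {s x : G} (h : CAt S s x) (hxx : x * x = 1) : Good S x := by
  classical
  by_cases hex : ∃ s₁ x₁, CAt S s₁ x₁ ∧ x₁ * x₁ = 1 ∧ Good S x₁
  · obtain ⟨s₁, x₁, h₁, hxx₁, hg₁⟩ := hex
    obtain ⟨g, hg⟩ := isConj_iff.1 (S.K_isConj s s₁ h.1 h₁.1)
    obtain ⟨π, M⟩ := S.model s₁ h₁.1
    have h' := S.CAt_conj (g := g) h
    rw [hg] at h'
    obtain ⟨c, hc, hA⟩ := S.cAt_form M h' (sq_conj hxx)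
    obtain ⟨c₁, hc₁, hA₁⟩ := S.cAt_form M h₁ hxx₁
    obtain ⟨y, -, hy⟩ := M.coset (Or.inr (Or.inr rfl)) hA (sq_conj (sq_conj hxx)) hA₁ (sq_conj hxx₁)
    have hg₁' := S.Good_conj hg₁ c₁
    refine S.Good_of_conj (g := g) (S.Good_of_conj (g := c) (S.Good_of_conj (g := y) ?_))
    rcases hy with e | e <;> rw [e]
    · exact hg₁'
    · exact Good_isConj (M.conj_sign hA₁ (sq_conj hxx₁)).symm hg₁'
  push Not at hex
  exfalso
  obtain ⟨u, π, π', p⟩ := S.exists_pair_at h.1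
  obtain ⟨c, -, hA⟩ := S.cAt_form p.left h hxx
  obtain ⟨x₁, x₂, b₁, b₂, hx₁, hx₂, h₁₂, h₂₂, hb₁, hb₂, hne, hq, hA₁, hA₂⟩ :=
    p.side (Or.inr (Or.inr rfl)) hA (sq_conj hxx)
  have hcon : ∀ x', IsConj (c * x * c⁻¹) x' → ¬ Good S x' := fun x' hx' hgd =>
    hex s x h hxx (S.Good_of_conj (Good_isConj hx' hgd))
  rcases hb₁ with rfl | hb₁
  · exact hcon x₁ hx₁ (good_of_zero p.right p.Ku hA₁)
  rcases hb₂ with rfl | hb₂
  · exact hcon x₂ hx₂ (good_of_zero p.right p.Ku hA₂)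
  obtain ⟨a, y, ha, hyy, hAy, hgy, hgys⟩ := p.symm.exists_good_form
  have key : ∀ x' b, IsConj (c * x * c⁻¹) x' → x' * x' = 1 → Acts u (S.E u) π' x' (bg b) → b ≠ a := by
    rintro x' b hx' hxx' hAx rfl
    obtain ⟨d, -, hd⟩ := p.right.coset ha hAx hxx' hAy hyy
    refine hcon x' hx' (S.Good_of_conj (g := d) ?_)
    rcases hd with e | e <;> rw [e]
    exacts [hgy, hgys]
  have k₁ := key x₁ b₁ hx₁ h₁₂ hA₁
  have k₂ := key x₂ b₂ hx₂ h₂₂ hA₂
  rcases ha.cases_one hb₁ hb₂ hne (hq.trans (by decide)) with e | e | e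
  · rw [e] at hAy
    exact hex u y (p.right.cAt_of_acts p.Ku hAy) hyy hgy
  · exact k₁ e.symm
  · exact k₂ e.symm

/-- The involutions outside the second class are good. -/
theorem good_or_conj {s u : G} {π π' : G → V8} (p : Pair S s u π π') {t0 : G}
    (h0 : Pair.Rep (S := S) (s := s) (u := u) (π := π) w0 vd t0) {x : G} (hxs : Commute x s)
    (hxx : x * x = 1) (hx1 : x ≠ 1) : Good S x ∨ IsConj x t0 := by
  by_cases hx : x ∈ S.E s
  · exact Or.inl (Or.inl (S.K_of_mem p.Ks hx hxx hx1))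
  obtain ⟨c, g, hc, hA, hg, hg1⟩ := p.left.exists_form hxs hxx hx
  have hbig : ∀ a, BigW a → qW a = 0 → Acts s (S.E s) π (c * x * c⁻¹) (bg a) → Good S x := by
    intro a ha hqa hA
    obtain ⟨x₁, x₂, b₁, b₂, hx₁, hx₂, h₁₂, h₂₂, hb₁, hb₂, hne, hq, hA₁, hA₂⟩ := p.side ha hA (sq_conj hxx)
    refine S.Good_of_conj (g := c) ?_
    rcases hb₁ with rfl | hb₁
    · exact Good_isConj hx₁ (good_of_zero p.right p.Ku hA₁)
    rcases hb₂ with rfl | hb₂
    · exact Good_isConj hx₂ (good_of_zero p.right p.Ku hA₂)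
    rcases hb₁.cases_zero hb₂ hne (hq.trans hqa) with e | e
    · rw [e] at hA₁
      exact Good_isConj hx₁ (S.good_of_cAt (p.right.cAt_of_acts p.Ku hA₁) h₁₂)
    · rw [e] at hA₂
      exact Good_isConj hx₂ (S.good_of_cAt (p.right.cAt_of_acts p.Ku hA₂) h₂₂)
  rcases hg with rfl | rfl | rfl | rfl | rfl | rfl
  · exact absurd rfl hg1
  · exact Or.inl (S.Good_of_conj (g := c) (Or.inr ⟨s, Pair.sg_e1_root p p.left p.Ks hA⟩))
  · obtain ⟨d, -, hd⟩ := p.classify_w0 h0 hA (sq_conj hxx)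
    exact Or.inr (isConj_iff.2 ⟨d * c, by rw [← hd]; group⟩)
  · exact Or.inl (hbig _ (Or.inl rfl) (by decide) hA)
  · exact Or.inl (hbig _ (Or.inr (Or.inl rfl)) (by decide) hA)
  · exact Or.inl (S.Good_of_conj (g := c) (S.good_of_cAt (p.left.cAt_of_acts p.Ks hA) (sq_conj hxx)))

/-- The good involutions form two classes at most. -/
theorem good_cases {s u : G} {π π' : G → V8} (p : Pair S s u π π') {x0 : G}
    (h0 : Pair.Rep (S := S) (s := s) (u := u) (π := π) e1 e2 x0) {x : G} (hxx : x * x = 1) (hx1 : x ≠ 1)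
    (hg : Good S x) : IsConj x s ∨ IsConj x x0 := by
  rcases hg with hg | ⟨r, hr⟩
  · exact Or.inl (S.K_isConj x s hg p.Ks)
  obtain ⟨g, hgs⟩ := isConj_iff.1 (S.K_isConj r s hr.1 p.Ks)
  have h' := S.RootAt_conj (g := g) hr
  rw [hgs] at h'
  obtain ⟨c, σ, hc, hA, hσ, hσ1⟩ := p.left.exists_form h'.2.1 (sq_conj hxx) h'.2.2.1
  have h'' := S.RootAt_conj (g := c) h'
  rw [conj_eq_iff_commute.2 hc] at h''
  have hb : ∀ a, BigW a → σ ≠ bg a := by
    rintro a ha rfl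
    obtain ⟨e, he, hI⟩ := (p.left.small_iff hA).1 h''.2.2.2.2
    exact ha.not_inE he hI
  rcases hσ with rfl | rfl | rfl | h | h | h
  · exact absurd rfl hσ1
  · have hgx : IsConj x (c * (g * x * g⁻¹) * c⁻¹) := isConj_iff.2 ⟨c * g, by group⟩
    rcases p.classify_e1 h0 hA (sq_conj (sq_conj hxx)) with ⟨d, -, -, hd⟩ | ⟨d, -, hd⟩
    · refine Or.inl (hgx.trans ((isConj_iff.2 ⟨d, rfl⟩).trans (S.K_isConj _ s ?_ p.Ks)))
      exact S.K_of_mem p.Ku hd (sq_conj (sq_conj (sq_conj hxx))) fun e => hx1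
        (conj_eq_one_iff.1 (conj_eq_one_iff.1 (conj_eq_one_iff.1 e)))
    · exact Or.inr (hgx.trans (isConj_iff.2 ⟨d, hd⟩))
  · exact absurd ((p.left.at_iff hA).1 h''.2.2.2.1) sg_w0_not_aType
  · exact absurd h (hb _ (Or.inl rfl))
  · exact absurd h (hb _ (Or.inr (Or.inl rfl)))
  · exact absurd h (hb _ (Or.inr (Or.inr rfl)))

end Sys

end CfsgLib.CoOneType
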